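import Mathlib.CategoryTheory.Adjunction.Additive
import Mathlib.Algebra.Homology.Embedding.CochainComplex
import Mathlib.Algebra.Homology.Embedding.ExtendHomology
import Mathlib.CategoryTheory.Abelian.Injective.Extend
import Mathlib.Algebra.Homology.QuasiIso
import Mathlib.Algebra.Homology.SingleHomology
import Mathlib.CategoryTheory.Abelian.Refinements

/-! The resolution of an object by a faithfully exact adjunction. -/

universe v u v' u'

open CategoryTheory CategoryTheory.Limits

set_option backward.defeqAttrib.useBackward true
set_option backward.isDefEq.respectTransparency false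
set_option autoImplicit false
set_option linter.style.haveILetI false
namespace Groth.L10.Descent

variable {A : Type u} [Category.{v} A] [Abelian A] {B : Type u'} [Category.{v'} B] [Abelian B]
  {L : A ⥤ B} {R : B ⥤ A} [L.Additive] [R.Additive] (adj : L ⊣ R) (M : A)

/-- iterates of the monad -/
noncomputable def monX : ℕ → A
  | 0 => M
  | n + 1 => R.obj (L.obj (monX n))

/-- the unit, between iterates -/
noncomputable abbrev monU (n : ℕ) : monX (L := L) (R := R) M n ⟶ monX (L := L) (R := R) M (n + 1) :=
  adj.unit.app (monX M n)

/-- the monad, between iterates -/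
noncomputable abbrev monT {m n : ℕ} (f : monX (L := L) (R := R) M m ⟶ monX (L := L) (R := R) M n) :
    monX (L := L) (R := R) M (m + 1) ⟶ monX (L := L) (R := R) M (n + 1) :=
  R.map (L.map f)

/-- the differential -/
noncomputable def monD : ∀ n : ℕ, monX (L := L) (R := R) M n ⟶ monX (L := L) (R := R) M (n + 1)
  | 0 => monU adj M 0
  | n + 1 => monU adj M (n + 1) - monT M (monD n)

theorem monD_succ (n : ℕ) : monD adj M (n + 1) = monU adj M (n + 1) - monT M (monD adj M n) := rfl

theorem monU_nat {m n : ℕ} (f : monX (L := L) (R := R) M m ⟶ monX (L := L) (R := R) M n) :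
    f ≫ monU adj M n = monU adj M m ≫ monT M f :=
  adj.unit.naturality f

theorem monT_comp {l m n : ℕ} (f : monX (L := L) (R := R) M l ⟶ monX (L := L) (R := R) M m)
    (g : monX (L := L) (R := R) M m ⟶ monX (L := L) (R := R) M n) :
    monT M f ≫ monT M g = monT M (f ≫ g) := by
  simp only [monT, Functor.map_comp]

theorem monT_zero (m n : ℕ) : monT M (0 : monX (L := L) (R := R) M m ⟶ monX (L := L) (R := R) M n) = 0 := by
  simp only [monT, Functor.map_zero]

theorem monD_comp : ∀ n : ℕ, monD adj M n ≫ monD adj M (n + 1) = 0
  | 0 => by rw [monD_succ, Preadditive.comp_sub, sub_eq_zero]; exact monU_nat adj M _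
  | n + 1 => by
    rw [monD_succ adj M (n + 1), Preadditive.comp_sub, monU_nat]
    have h : monD adj M (n + 1) ≫ monT M (monD adj M (n + 1)) = monU adj M (n + 1) ≫ monT M (monD adj M (n + 1)) :=
      calc monD adj M (n + 1) ≫ monT M (monD adj M (n + 1))
          = (monU adj M (n + 1) - monT M (monD adj M n)) ≫ monT M (monD adj M (n + 1)) := rfl
        _ = _ := by rw [Preadditive.sub_comp, monT_comp, monD_comp n, monT_zero, sub_zero]
    rw [h, sub_self]

/-- contracting homotopy after applying `L` -/
noncomputable def monH (n : ℕ) : L.obj (monX (L := L) (R := R) M (n + 1)) ⟶ L.obj (monX (L := L) (R := R) M n) :=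
  adj.counit.app (L.obj (monX M n))

theorem monH_zero : L.map (monD adj M 0) ≫ monH adj M 0 = 𝟙 _ := adj.left_triangle_components M

theorem monH_succ (n : ℕ) :
    L.map (monD adj M (n + 1)) ≫ monH adj M (n + 1) = 𝟙 _ - monH adj M n ≫ L.map (monD adj M n) := by
  have hn := adj.counit.naturality (L.map (monD adj M n))
  simp only [Functor.id_obj, Functor.id_map, Functor.comp_obj, Functor.comp_map] at hn
  rw [monD_succ, L.map_sub, Preadditive.sub_comp]
  congr 1
  exact adj.left_triangle_components (monX (L := L) (R := R) M (n + 1))

variable [PreservesFiniteLimits L] [PreservesFiniteColimits L] (hL : ∀ X : A, IsZero (L.obj X) → IsZero X)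

include hL in
theorem mon_mono : Mono (monD adj M 0) := by
  haveI : Mono (L.map (monD adj M 0)) := mono_of_mono_fac (monH_zero adj M)
  refine Preadditive.mono_of_kernel_zero ?_
  refine (hL _ ?_).eq_of_src _ _
  exact (IsZero.of_iso (isZero_kernel_of_mono (L.map (monD adj M 0))) (PreservesKernel.iso L _))

include hL in
theorem mon_exact (n : ℕ) : (ShortComplex.mk _ _ (monD_comp adj M n)).Exact := by
  let S := ShortComplex.mk _ _ (monD_comp adj M n)
  have h : (S.map L).Exact := by
    rw [ShortComplex.exact_iff_exact_up_to_refinements]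
    intro T x hx
    change x ≫ L.map (monD adj M (n + 1)) = 0 at hx
    refine ⟨T, 𝟙 _, inferInstance, x ≫ monH adj M n, ?_⟩
    have h2 := congrArg (x ≫ ·) (monH_succ adj M n)
    simp only [reassoc_of% hx, zero_comp, Preadditive.comp_sub, Category.comp_id] at h2
    rw [Category.id_comp]
    exact ((Category.comp_id x).symm.trans (sub_eq_zero.1 h2.symm)).trans (Category.assoc _ _ _).symm
  rw [ShortComplex.exact_iff_isZero_homology] at h ⊢
  exact hL _ (h.of_iso (S.mapHomologyIso L).symm)

/-- the resolution, in natural degrees -/
noncomputable def monCxN : CochainComplex A ℕ :=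
  CochainComplex.of (fun n => monX (L := L) (R := R) M (n + 1)) (fun n => monD adj M (n + 1)) fun n => monD_comp adj M (n + 1)

theorem monCxN_d (n : ℕ) : (monCxN adj M).d n (n + 1) = monD adj M (n + 1) := by simp [monCxN]

/-- its augmentation -/
noncomputable def monι : (CochainComplex.single₀ A).obj M ⟶ monCxN adj M :=
  (CochainComplex.fromSingle₀Equiv _ _).symm ⟨monD adj M 0, by
    rw [monCxN_d]
    exact monD_comp adj M 0⟩

include hL in
theorem quasiIso_monι : QuasiIso (monι adj M) := ⟨fun n => by
  cases n with
  | zero =>
    rw [CochainComplex.quasiIsoAt₀_iff, ShortComplex.quasiIso_iff_of_zeros]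
    · refine (ShortComplex.exact_and_mono_f_iff_of_iso ?_).2 ⟨mon_exact adj M hL 0, mon_mono adj M hL⟩
      exact ShortComplex.isoMk (Iso.refl _) (Iso.refl _) (Iso.refl _) (by simp [monι])
        (by simpa using (monCxN_d adj M 0).symm)
    all_goals rfl
  | succ k =>
    rw [quasiIsoAt_iff_exactAt]
    · rw [HomologicalComplex.exactAt_iff' _ k (k + 1) (k + 2) (by simp) (by simp)]
      refine ShortComplex.exact_of_iso ?_ (mon_exact adj M hL (k + 1))
      exact ShortComplex.isoMk (Iso.refl _) (Iso.refl _) (Iso.refl _) (by simpa using monCxN_d adj M k)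
        (by simpa using monCxN_d adj M (k + 1))
    · exact CochainComplex.exactAt_succ_single_obj M k⟩

/-- the resolution -/
noncomputable def monCx : CochainComplex A ℤ := (monCxN adj M).extend ComplexShape.embeddingUpNat

instance : (monCx adj M).IsStrictlyGE 0 := by dsimp [monCx]; infer_instance

/-- its terms -/
noncomputable def monCxXIso (p : ℕ) : (monCx adj M).X (p : ℤ) ≅ monX (L := L) (R := R) M (p + 1) :=
  HomologicalComplex.extendXIso _ _ rfl

/-- the augmentation -/
noncomputable def monι' : (CochainComplex.singleFunctor A 0).obj M ⟶ monCx adj M :=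
  (HomologicalComplex.extendSingleIso _ _ _ _ (by simp)).inv ≫
    (ComplexShape.embeddingUpNat.extendFunctor A).map (monι adj M)

include hL in
theorem quasiIso_monι' : QuasiIso (monι' adj M) := by
  haveI := quasiIso_monι adj M hL
  dsimp [monι']
  infer_instance

end Groth.L10.Descent
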