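import Groth.Agent.L10.Descent.CoresolutionSS
import Groth.Agent.L10.Descent.MonadResolution
import Groth.Agent.L27.EtSite.BaseChangeIso
import Groth.Agent.L27.EtSite.HofPush
import Groth.Agent.L27.EtSite.Push
import Groth.Agent.L28.AcyComp.Iso
import Groth.Prelude.Def_EtLim

/-! The descent spectral sequence of an integral surjective morphism. -/

universe u

open CategoryTheory CategoryTheory.Limits AlgebraicGeometry Opposite

set_option backward.isDefEq.respectTransparency.types false
set_option linter.style.haveILetI false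
set_option autoImplicit false

namespace Groth.L10.EtMonad

open Groth.L27.EtSite

variable {X Y : Scheme.{u}} (f : X ⟶ Y)

/-- inverse image along a surjection detects zero sheaves -/
theorem isZero_of_isZero_pull [Surjective f] (F : EtCoh.Ab Y) (h : IsZero ((EtCoh.pull f).obj F)) : IsZero F := by
  obtain ⟨Z0, hZ0⟩ := (inferInstance : HasZeroObject (EtCoh.Ab Y)).zero
  let φ : F ⟶ Z0 := 0
  haveI : Sheaf.IsLocallyInjective φ := isLocallyInjective_of_some_stalks φ.hom fun y => by
    obtain ⟨x, rfl⟩ := f.surjective y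
    obtain ⟨Ω, _, _, ξ, rfl⟩ := exists_geometric_point x
    refine ⟨Ω, inferInstance, inferInstance, ξ ≫ f, rfl, ?_⟩
    have hz : IsZero ((EtCoh.stalk (ξ ≫ f)).obj F) :=
      ((EtCoh.stalk ξ).map_isZero h).of_iso ((stalkPullIso f ξ).app F).symm
    haveI := AddCommGrpCat.subsingleton_of_isZero hz
    exact fun a b _ => Subsingleton.elim (α := (EtCoh.stalk (ξ ≫ f)).obj F) a b
  haveI : Mono φ := Sheaf.mono_of_isLocallyInjective φ
  exact IsZero.of_mono φ hZ0

/-- `a_* a^*` -/
noncomputable abbrev PP {W : Scheme.{u}} (a : W ⟶ Y) (F : EtCoh.Ab Y) : EtCoh.Ab Y :=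
  (EtCoh.push a).obj ((EtCoh.pull a).obj F)

theorem nonempty_PP_iso {W W' : Scheme.{u}} (e : W' ≅ W) (a : W ⟶ Y) (a' : W' ⟶ Y) (h : e.hom ≫ a = a')
    (F : EtCoh.Ab Y) : Nonempty (PP a F ≅ PP a' F) := by
  subst h
  haveI := Groth.L28.AcyComp.isIso_unit e.hom ((EtCoh.pull a).obj F)
  exact ⟨(EtCoh.push a).mapIso (asIso ((EtCoh.pullPushAdj e.hom).unit.app ((EtCoh.pull a).obj F))) ≪≫
    (EtCoh.pushComp a e.hom).app _ ≪≫
    (EtCoh.push (e.hom ≫ a)).mapIso ((EtCore.pullComp e.hom a).symm.app F)⟩

/-- applying the monad of `f` -/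
theorem nonempty_monad_PP_iso {W : Scheme.{u}} (a : W ⟶ Y) [IsIntegralHom a] (F : EtCoh.Ab Y) :
    Nonempty ((EtCoh.push f).obj ((EtCoh.pull f).obj (PP a F)) ≅ PP (pullback.fst f a ≫ f) F) := by
  have h : IsPullback (pullback.snd f a) (pullback.fst f a) a f := (IsPullback.of_hasPullback f a).flip
  haveI := BC.isIso_baseChange0 h ((EtCoh.pull a).obj F)
  exact ⟨(EtCoh.push f).mapIso (asIso (EtCoh.baseChange0 a f (pullback.fst f a) (pullback.snd f a) h.w
      ((EtCoh.pull a).obj F))) ≪≫ (EtCoh.pushComp f (pullback.fst f a)).app _ ≪≫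
    (EtCoh.push (pullback.fst f a ≫ f)).mapIso
      (((EtCore.pullComp (pullback.snd f a) a).symm ≪≫ EtCore.pullCongr h.w).app F)⟩

/-- the iterated fibre product -/
noncomputable abbrev fp (n : ℕ) : Scheme.{u} := widePullback Y (fun _ : Fin (n + 1) => X) (fun _ => f)

/-- its projection -/
noncomputable abbrev fpBase (n : ℕ) : fp f n ⟶ Y := WidePullback.base (fun _ : Fin (n + 1) => f)

/-- one factor -/
noncomputable def fpZeroIso : fp f 0 ≅ X where
  hom := WidePullback.π (fun _ : Fin 1 => f) 0
  inv := WidePullback.lift f (fun _ => 𝟙 X) (fun _ => Category.id_comp f)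
  hom_inv_id := by
    refine WidePullback.hom_ext (fun _ : Fin 1 => f) _ _ (fun j => ?_) ?_
    · obtain rfl : j = 0 := Subsingleton.elim _ _
      erw [Category.assoc, WidePullback.lift_π, Category.comp_id]
    · erw [Category.assoc, WidePullback.lift_base, WidePullback.π_arrow (fun _ : Fin 1 => f) 0, Category.id_comp]
  inv_hom_id := WidePullback.lift_π (fun _ : Fin 1 => f) f (fun _ => 𝟙 X) (fun _ => Category.id_comp f) 0

/-- to the smaller fibre product -/
noncomputable def fpTail (n : ℕ) : fp f (n + 1) ⟶ fp f n :=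
  WidePullback.lift (fpBase f (n + 1)) (fun j => WidePullback.π (fun _ : Fin (n + 2) => f) j.succ)
    (fun j => WidePullback.π_arrow (fun _ : Fin (n + 2) => f) j.succ)

/-- to the larger fibre product -/
noncomputable def fpCons (n : ℕ) : pullback f (fpBase f n) ⟶ fp f (n + 1) :=
  WidePullback.lift (pullback.fst f (fpBase f n) ≫ f)
    (Fin.cases (pullback.fst f (fpBase f n))
      (fun j => pullback.snd f (fpBase f n) ≫ WidePullback.π (fun _ : Fin (n + 1) => f) j))
    (fun j => by
      induction j using Fin.cases with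
      | zero => rfl
      | succ j =>
        rw [Fin.cases_succ]
        exact (Category.assoc _ _ _).trans ((congrArg (_ ≫ ·) (WidePullback.π_arrow (fun _ : Fin (n + 1) => f) j)).trans
          pullback.condition.symm))

theorem fpTail_base (n : ℕ) : fpTail f n ≫ fpBase f n = fpBase f (n + 1) :=
  WidePullback.lift_base (fun _ : Fin (n + 1) => f) _ _ _

theorem fpTail_π (n : ℕ) (j : Fin (n + 1)) : fpTail f n ≫ WidePullback.π (fun _ : Fin (n + 1) => f) j =
    WidePullback.π (fun _ : Fin (n + 2) => f) j.succ :=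
  WidePullback.lift_π (fun _ : Fin (n + 1) => f) _ _ _ j

theorem fpCons_base (n : ℕ) : fpCons f n ≫ fpBase f (n + 1) = pullback.fst f (fpBase f n) ≫ f :=
  WidePullback.lift_base (fun _ : Fin (n + 2) => f) _ _ _

theorem fpCons_π_zero (n : ℕ) : fpCons f n ≫ WidePullback.π (fun _ : Fin (n + 2) => f) 0 =
    pullback.fst f (fpBase f n) :=
  WidePullback.lift_π (fun _ : Fin (n + 2) => f) _ _ _ 0

theorem fpCons_π_succ (n : ℕ) (j : Fin (n + 1)) : fpCons f n ≫ WidePullback.π (fun _ : Fin (n + 2) => f) j.succ =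
    pullback.snd f (fpBase f n) ≫ WidePullback.π (fun _ : Fin (n + 1) => f) j :=
  WidePullback.lift_π (fun _ : Fin (n + 2) => f) _ _ _ j.succ

/-- one more factor -/
noncomputable def fpSuccIso (n : ℕ) : fp f (n + 1) ≅ pullback f (fpBase f n) where
  hom := pullback.lift (WidePullback.π (fun _ : Fin (n + 2) => f) 0) (fpTail f n)
    ((WidePullback.π_arrow (fun _ : Fin (n + 2) => f) 0).trans (fpTail_base f n).symm)
  inv := fpCons f n
  hom_inv_id := by
    refine WidePullback.hom_ext (fun _ : Fin (n + 2) => f) _ _ (fun j => ?_) ?_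
    · induction j using Fin.cases with
      | zero => erw [Category.assoc, fpCons_π_zero, pullback.lift_fst, Category.id_comp]
      | succ j => erw [Category.assoc, fpCons_π_succ, pullback.lift_snd_assoc, fpTail_π, Category.id_comp]
    · erw [Category.assoc, fpCons_base, pullback.lift_fst_assoc, WidePullback.π_arrow (fun _ : Fin (n + 2) => f) 0,
        Category.id_comp]
  inv_hom_id := by
    refine pullback.hom_ext ?_ ?_
    · erw [Category.assoc, pullback.lift_fst, fpCons_π_zero, Category.id_comp]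
    · erw [Category.assoc, pullback.lift_snd, Category.id_comp]
      refine WidePullback.hom_ext (fun _ : Fin (n + 1) => f) _ _ (fun j => ?_) ?_
      · erw [Category.assoc, fpTail_π, fpCons_π_succ]
      · erw [Category.assoc, fpTail_base, fpCons_base]
        exact pullback.condition

theorem fpSuccIso_fst (n : ℕ) : (fpSuccIso f n).hom ≫ pullback.fst f (fpBase f n) ≫ f = fpBase f (n + 1) :=
  (pullback.lift_fst_assoc _ _ _ f).trans (WidePullback.π_arrow (fun _ : Fin (n + 2) => f) 0)

theorem isIntegral_fpBase [IsIntegralHom f] : ∀ n : ℕ, IsIntegralHom (fpBase f n)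
  | 0 => by
    rw [show fpBase f 0 = (fpZeroIso f).hom ≫ f from (WidePullback.π_arrow (fun _ : Fin 1 => f) 0).symm]
    infer_instance
  | n + 1 => by
    haveI := isIntegral_fpBase n
    rw [← fpSuccIso_fst f n]
    infer_instance

theorem nonempty_monX_iso [IsIntegralHom f] (F : EtCoh.Ab Y) : ∀ n : ℕ,
    Nonempty (Groth.L10.Descent.monX (L := EtCoh.pull f) (R := EtCoh.push f) F (n + 1) ≅ PP (fpBase f n) F)
  | 0 => nonempty_PP_iso (fpZeroIso f) f (fpBase f 0) (WidePullback.π_arrow (fun _ : Fin 1 => f) 0) F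
  | n + 1 => by
    haveI := isIntegral_fpBase f n
    obtain ⟨i⟩ := nonempty_monX_iso F n
    obtain ⟨j⟩ := nonempty_monad_PP_iso f (fpBase f n) F
    obtain ⟨k⟩ := nonempty_PP_iso (fpSuccIso f n) (pullback.fst f (fpBase f n) ≫ f) (fpBase f (n + 1))
      (fpSuccIso_fst f n) F
    exact ⟨(EtCoh.push f).mapIso ((EtCoh.pull f).mapIso i) ≪≫ j ≪≫ k⟩

end Groth.L10.EtMonad
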