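import Groth.Agent.L10.Descent.SpaceSS

/-! The descent spectral sequence of a map of cohomological descent. -/

universe u

open CategoryTheory CategoryTheory.Limits

set_option backward.isDefEq.respectTransparency false
set_option autoImplicit false
namespace Groth.L10.Descent

/-- The descent spectral sequence of the Cech nerve of a map of cohomological descent. -/
theorem exists_spectralSequence_cech {X S : TopCat.{u}} (f : X ⟶ S) (h : FibDesc.IsCohDescentMap f)
    (F : CohTop.Ab S) :
    ∃ (E : CohomologicalSpectralSequence AddCommGrpCat.{u} 1)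
      (a : SpSeq.Abutment E (fun n : ℤ =>
        if 0 ≤ n then AddCommGrpCat.of (CohTop.H F n.toNat) else AddCommGrpCat.of PUnit.{u + 1})),
      (∀ n, a.IsFinite n) ∧ SpSeq.IsBounded E ∧
      ∀ p q : ℤ, Nonempty ((E.page 1 le_rfl).X (p, q) ≅
        (if 0 ≤ p ∧ 0 ≤ q then
          AddCommGrpCat.of (CohTop.H ((CohTop.pull
            (WidePullback.base (fun _ : Fin (p.toNat + 1) => f) :
              widePullback S (fun _ : Fin (p.toNat + 1) => X) (fun _ => f) ⟶ S)).obj F) q.toNat)
         else AddCommGrpCat.of PUnit.{u + 1})) :=
  exists_spectralSequence_descent (FibDesc.cechAug f) h F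

end Groth.L10.Descent
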