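import Groth.Agent.L10.Descent.Decalage
import Groth.Agent.L17.SpecObjHom
import Groth.Agent.L10.KInjDerived
import Mathlib.Algebra.Homology.HomotopyCategory.SpectralObject
import Mathlib.CategoryTheory.Triangulated.Yoneda
import Mathlib.Algebra.Homology.DerivedCategory.Ext.Basic
import Mathlib.Algebra.Homology.DerivedCategory.TStructure
import Mathlib.Algebra.Homology.DerivedCategory.ShortExact
import Mathlib.Algebra.Category.Grp.Zero

/-! The `E₁` spectral sequence of a coresolution, converging to `Ext`. -/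

universe v u

open CategoryTheory CategoryTheory.Limits CategoryTheory.Abelian CategoryTheory.Pretriangulated Opposite

set_option backward.defeqAttrib.useBackward true
set_option backward.isDefEq.respectTransparency false
set_option autoImplicit false
set_option linter.style.haveILetI false
namespace Groth.L10.Descent

variable {A : Type u} [Category.{v} A] [Abelian A]

open Groth.L10.KInjDerived in
/-- a derived category with morphisms in the universe of `A` -/
@[instance_reducible]
noncomputable def smallDerived [EnoughKInjectives A] : HasDerivedCategory.{v} A :=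
  letI := HasDerivedCategory.standard A
  { D := KI A
    L := DerivedCategory.Q ⋙ (equiv (A := A)).inverse
    hL := Functor.IsLocalization.of_equivalence_target DerivedCategory.Q
      (HomologicalComplex.quasiIso A (ComplexShape.up ℤ)) _ (equiv (A := A)).symm (Iso.refl _) }

variable (K : CochainComplex A ℤ)

/-- degree `p` is kept in step `i` -/
def Kept (i : EInt) (p : ℤ) : Prop := ((-p : ℤ) : EInt) < i

/-- one term of a step of the stupid filtration -/
noncomputable abbrev stX (i : EInt) (p : ℤ) : A := ∐ fun _ : PLift (Kept i p) => K.X p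

theorem kept_succ {i : EInt} {p q : ℤ} (h : Kept i p) (hq : p ≤ q) : Kept i q :=
  lt_of_le_of_lt (by simp only [WithBotTop.coe_le_coe]; omega) h

/-- a step of the stupid filtration -/
noncomputable def stCx (i : EInt) : CochainComplex A ℤ :=
  CochainComplex.of (fun p => stX K i p)
    (fun p => Sigma.desc fun h =>
      K.d p (p + 1) ≫ Sigma.ι (fun _ : PLift (Kept i (p + 1)) => K.X (p + 1)) ⟨kept_succ h.down (by omega)⟩)
    (fun p => Sigma.hom_ext _ _ fun h => by simp)

theorem stCx_d (i : EInt) (p : ℤ) (h : PLift (Kept i p)) :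
    Sigma.ι (fun _ : PLift (Kept i p) => K.X p) h ≫ (stCx K i).d p (p + 1) =
      K.d p (p + 1) ≫ Sigma.ι (fun _ : PLift (Kept i (p + 1)) => K.X (p + 1)) ⟨kept_succ h.down (by omega)⟩ := by
  simp [stCx]

/-- inclusion of steps -/
noncomputable def stMap {i j : EInt} (h : i ≤ j) : stCx K i ⟶ stCx K j where
  f p := Sigma.desc fun x => Sigma.ι (fun _ : PLift (Kept j p) => K.X p) ⟨lt_of_lt_of_le x.down h⟩
  comm' p q hpq := by
    obtain rfl : p + 1 = q := hpq
    refine Sigma.hom_ext _ _ fun x => ?_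
    rw [Sigma.ι_desc_assoc, stCx_d, reassoc_of% (stCx_d K i p x), Sigma.ι_desc]

/-- the stupid filtration -/
noncomputable def stFunctor : EInt ⥤ CochainComplex A ℤ where
  obj := stCx K
  map f := stMap K (leOfHom f)
  map_id i := by ext p : 1; exact Sigma.hom_ext _ _ fun x => by simp [stMap]; exact (Category.comp_id _).symm
  map_comp f g := by ext p : 1; exact Sigma.hom_ext _ _ fun x => by simp [stMap]

theorem isZero_stX (i : EInt) (p : ℤ) (h : ¬ Kept i p) : IsZero (stX K i p) :=
  (IsZero.iff_id_eq_zero _).2 (Sigma.hom_ext _ _ fun x => absurd x.down h)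

/-- the whole complex -/
noncomputable def stι (i : EInt) : stCx K i ⟶ K where
  f p := Sigma.desc fun _ => 𝟙 _
  comm' p q hpq := by
    obtain rfl : p + 1 = q := hpq
    refine Sigma.hom_ext _ _ fun x => ?_
    rw [Sigma.ι_desc_assoc, Category.id_comp, reassoc_of% (stCx_d K i p x), Sigma.ι_desc, Category.comp_id]

theorem isIso_stι_f (i : EInt) (p : ℤ) (h : Kept i p) : IsIso ((stι K i).f p) :=
  ⟨Sigma.ι (fun _ : PLift (Kept i p) => K.X p) ⟨h⟩,
    Sigma.hom_ext _ _ fun x => by simp [stι, Subsingleton.elim x ⟨h⟩]; exact (Category.comp_id _).symm,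
    by simp [stι]⟩

theorem mono_stMap {i j : EInt} (h : i ≤ j) : Mono (stMap K h) := by
  haveI : ∀ p, Mono ((stMap K h).f p) := fun p => by
    by_cases hp : Kept i p
    · haveI := isIso_stι_f K i p hp
      exact mono_of_mono_fac (show (stMap K h).f p ≫ (stι K j).f p = (stι K i).f p from
        Sigma.hom_ext _ _ fun x => by simp [stMap, stι])
    · exact (isZero_stX K i p hp).mono _
  exact HomologicalComplex.mono_of_mono_f _ this

theorem kept_coe (i p : ℤ) : Kept (i : EInt) p ↔ -p < i := WithBotTop.coe_lt_coe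

/-- one step -/
noncomputable def stSlice (i : ℤ) :
    stCx K ((i + 1 : ℤ) : EInt) ⟶ (HomologicalComplex.single A (ComplexShape.up ℤ) (-i)).obj (K.X (-i)) :=
  HomologicalComplex.mkHomToSingle ((stι K _).f (-i)) fun p hp => by
    change p + 1 = -i at hp
    refine IsZero.eq_of_src (isZero_stX K _ p ?_) _ _
    rw [kept_coe]
    omega

theorem shortExact_slice (i : ℤ) :
    ∃ hw : stMap K (Groth.L17.SpecObj.coe_le_succ i) ≫ stSlice K i = 0,
      (ShortComplex.mk _ _ hw).ShortExact := by
  have h0 : stMap K (Groth.L17.SpecObj.coe_le_succ i) ≫ stSlice K i = 0 :=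
    HomologicalComplex.to_single_hom_ext ((isZero_stX K (i : EInt) (-i) (by rw [kept_coe]; omega)).eq_of_src _ _)
  refine ⟨h0, HomologicalComplex.shortExact_of_degreewise_shortExact _ fun p => ?_⟩
  by_cases hp : p = -i
  · subst hp
    have hz := isZero_stX K (i : EInt) (-i) (by rw [kept_coe]; omega)
    haveI hg : IsIso ((stSlice K i).f (-i)) := by
      haveI := isIso_stι_f K ((i + 1 : ℤ) : EInt) (-i) (by rw [kept_coe]; omega)
      simp [stSlice]
      infer_instance
    exact ShortComplex.ShortExact.mk' ((ShortComplex.exact_iff_mono _ (hz.eq_of_src _ _)).2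
      (show Mono ((stSlice K i).f (-i)) from inferInstance)) (hz.mono _)
      (show Epi ((stSlice K i).f (-i)) from inferInstance)
  · have hz : IsZero (((HomologicalComplex.single A (ComplexShape.up ℤ) (-i)).obj (K.X (-i))).X p) :=
      HomologicalComplex.isZero_single_obj_X _ _ _ _ hp
    haveI : IsIso ((stMap K (Groth.L17.SpecObj.coe_le_succ i)).f p) := by
      by_cases hk : Kept (i : EInt) p
      · haveI := isIso_stι_f K (i : EInt) p hk
        haveI := isIso_stι_f K ((i + 1 : ℤ) : EInt) p (lt_of_lt_of_le hk (Groth.L17.SpecObj.coe_le_succ i))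
        exact IsIso.of_isIso_fac_right (show (stMap K (Groth.L17.SpecObj.coe_le_succ i)).f p ≫
          (stι K _).f p = (stι K (i : EInt)).f p from Sigma.hom_ext _ _ fun x => by simp [stMap, stι])
      · exact isIso_of_source_target_iso_zero _ (isZero_stX K _ p hk).isoZero (isZero_stX K _ p fun h => by
          rw [kept_coe] at hk h; omega).isoZero
    exact ShortComplex.ShortExact.mk' ((ShortComplex.exact_iff_epi _ (hz.eq_of_tgt _ _)).2
      (show Epi ((stMap K (Groth.L17.SpecObj.coe_le_succ i)).f p) from inferInstance))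
      (show Mono ((stMap K (Groth.L17.SpecObj.coe_le_succ i)).f p) from inferInstance) (hz.epi _)

variable [HasDerivedCategory.{v} A]

/-- the spectral object of the stupid filtration seen by `Z` -/
noncomputable def coSpecObj (Z : A) : Abelian.SpectralObject AddCommGrpCat.{v} EInt :=
  Groth.L17.SpecObj.mapHomological
    (((HomotopyCategory.spectralObjectMappingCone A).precomp (stFunctor K)).mapTriangulatedFunctor DerivedCategory.Qh)
    (preadditiveCoyoneda.obj (op ((DerivedCategory.singleFunctor A 0).obj Z)))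

open Groth.L17.SpecObj (Hij coe_le_succ pageTwoIso IsLowBounded IsHighBounded)

/-- its pieces -/
theorem nonempty_coHij_iso (Z : A) {i j : EInt} (h : i ≤ j) (n : ℤ) {X : DerivedCategory A}
    (e : DerivedCategory.Q.obj (CochainComplex.mappingCone (stMap K h)) ≅ X) :
    Nonempty (Hij (coSpecObj K Z) n h ≅
      AddCommGrpCat.of ((DerivedCategory.singleFunctor A 0).obj Z ⟶ X⟦n⟧)) :=
  ⟨(preadditiveCoyoneda.obj (op ((DerivedCategory.singleFunctor A 0).obj Z))).mapIso
    ((shiftFunctor (DerivedCategory A) n).mapIso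
      ((DerivedCategory.quotientCompQhIso A).app (CochainComplex.mappingCone (stMap K h)) ≪≫ e))⟩

theorem isZero_stCx_bot : IsZero (stCx K ⊥) :=
  HomologicalComplex.isZero_of_isZero_X fun p => isZero_stX K ⊥ p (not_lt_bot)
  where
  HomologicalComplex.isZero_of_isZero_X {L : CochainComplex A ℤ} (h : ∀ p, IsZero (L.X p)) : IsZero L :=
    (IsZero.iff_id_eq_zero _).2 (HomologicalComplex.hom_ext _ _ fun p => (h p).eq_of_src _ _)

/-- cone on the bottom -/
theorem nonempty_cone_bot_iso (j : EInt) :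
    Nonempty (DerivedCategory.Q.obj (CochainComplex.mappingCone (stMap K (bot_le : ⊥ ≤ j))) ≅
      DerivedCategory.Q.obj (stCx K j)) := by
  let S := ShortComplex.mk (stMap K (bot_le : ⊥ ≤ j)) (𝟙 _) ((isZero_stCx_bot K).eq_of_src _ _)
  haveI : Mono S.f := (isZero_stCx_bot K).mono _
  haveI : Epi S.g := inferInstanceAs (Epi (𝟙 _))
  have hS : S.ShortExact := ShortComplex.ShortExact.mk' ((ShortComplex.exact_iff_mono _ ((isZero_stCx_bot K).eq_of_src _ _)).2
    (inferInstanceAs (Mono (𝟙 _)))) inferInstance inferInstance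
  haveI := CochainComplex.mappingCone.quasiIso_descShortComplex hS
  exact ⟨asIso (DerivedCategory.Q.map (CochainComplex.mappingCone.descShortComplex S))⟩

theorem nonempty_slice_cone_iso (i : ℤ) :
    Nonempty (DerivedCategory.Q.obj (CochainComplex.mappingCone (stMap K (coe_le_succ i))) ≅
      (DerivedCategory.singleFunctor A (-i)).obj (K.X (-i))) := by
  obtain ⟨hw, hS⟩ := shortExact_slice K i
  haveI := CochainComplex.mappingCone.quasiIso_descShortComplex hS
  exact ⟨asIso (DerivedCategory.Q.map (CochainComplex.mappingCone.descShortComplex (ShortComplex.mk _ _ hw))) ≪≫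
    ((DerivedCategory.singleFunctorIsoCompQ A (-i)).app _).symm⟩

theorem isZero_hom_shift (Z : A) (X : DerivedCategory A) (m n : ℤ) [X.IsGE m] (h : n < m) :
    IsZero (AddCommGrpCat.of ((DerivedCategory.singleFunctor A 0).obj Z ⟶ X⟦n⟧)) := by
  haveI : (X⟦n⟧).IsGE (m - n) := (DerivedCategory.TStructure.t).isGE_shift X m n (m - n) (by omega)
  haveI : Subsingleton ((DerivedCategory.singleFunctor A 0).obj Z ⟶ X⟦n⟧) :=
    ⟨fun a b => ((DerivedCategory.TStructure.t).zero a 0 (m - n) (by omega)).trans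
      ((DerivedCategory.TStructure.t).zero b 0 (m - n) (by omega)).symm⟩
  exact AddCommGrpCat.isZero_of_subsingleton _

theorem isLowBounded_coSpecObj (Z : A) : IsLowBounded (coSpecObj K Z) := fun n => ⟨-n, fun b hb => by
  obtain ⟨c⟩ := nonempty_cone_bot_iso K (b : EInt)
  obtain ⟨e⟩ := nonempty_coHij_iso K Z (bot_le : ⊥ ≤ (b : EInt)) n c
  haveI : (stCx K (b : EInt)).IsStrictlyGE (-b + 1) := (CochainComplex.isStrictlyGE_iff _ _).2 fun p hp =>
    isZero_stX K _ p (by rw [kept_coe]; omega)
  exact (isZero_hom_shift Z _ (-b + 1) n (by omega)).of_iso e⟩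

variable [K.IsStrictlyGE 0]

theorem isIso_stι (i : EInt) (h : (0 : ℤ) < i) : IsIso (stι K i) := by
  haveI : ∀ p, IsIso ((stι K i).f p) := fun p => by
    by_cases hp : 0 ≤ p
    · exact isIso_stι_f K i p (lt_of_le_of_lt (by simp only [WithBotTop.coe_le_coe]; omega) h)
    · have hz : IsZero (stX K i p) := (IsZero.iff_id_eq_zero _).2
        (Sigma.hom_ext _ _ fun x => (K.isZero_of_isStrictlyGE 0 p (by omega)).eq_of_src _ _)
      exact isIso_of_source_target_iso_zero _ hz.isoZero (K.isZero_of_isStrictlyGE 0 p (by omega)).isoZero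
  exact HomologicalComplex.Hom.isIso_of_components _

theorem isHighBounded_coSpecObj (Z : A) : IsHighBounded (coSpecObj K Z) := fun n => ⟨1, fun b hb => by
  haveI := isIso_stι K (b : EInt) (by simp only [WithBotTop.coe_lt_coe]; omega)
  haveI := isIso_stι K ⊤ (lt_top_iff_ne_top.2 (WithBotTop.coe_ne_top 0))
  haveI : IsIso (stMap K (le_top : (b : EInt) ≤ ⊤)) := IsIso.of_isIso_fac_right
    (show stMap K _ ≫ stι K ⊤ = stι K _ from HomologicalComplex.hom_ext _ _ fun p =>
      Sigma.hom_ext _ _ fun x => by simp [stMap, stι])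
  have hT := DerivedCategory.mappingCone_triangle_distinguished (stMap K (le_top : (b : EInt) ≤ ⊤))
  haveI : IsIso (DerivedCategory.Q.mapTriangle.obj
      (CochainComplex.mappingCone.triangle (stMap K (le_top : (b : EInt) ≤ ⊤)))).mor₁ :=
    inferInstanceAs (IsIso (DerivedCategory.Q.map (stMap K _)))
  have hz := (Triangle.isZero₃_iff_isIso₁ _ hT).2 inferInstance
  obtain ⟨e⟩ := nonempty_coHij_iso K Z (le_top : (b : EInt) ≤ ⊤) n (Iso.refl _)
  refine IsZero.of_iso ?_ e
  exact ((shiftFunctor (DerivedCategory A) n ⋙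
    preadditiveCoyoneda.obj (op ((DerivedCategory.singleFunctor A 0).obj Z))).map_isZero hz)⟩

variable [HasExt.{v} A]

/-- The spectral sequence of a coresolution: `E₁^{p,q} = Ext^q(Z, K^p) ⇒ Ext^{p+q}(Z, M)`. -/
theorem exists_spectralSequence_coresolution (Z M : A)
    (ι : (CochainComplex.singleFunctor A 0).obj M ⟶ K) [QuasiIso ι]
    (H : ℤ → AddCommGrpCat.{v}) (hH : ∀ n : ℕ, Nonempty (H n ≅ AddCommGrpCat.of (Ext.{v} Z M n)))
    (hH' : ∀ n : ℤ, n < 0 → IsZero (H n)) :
    ∃ (E : CohomologicalSpectralSequence AddCommGrpCat.{v} 1) (a : SpSeq.Abutment E H),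
      (∀ n, a.IsFinite n) ∧ SpSeq.IsBounded E ∧
      (∀ p q : ℕ, Nonempty ((E.page 1 le_rfl).X ((p : ℤ), (q : ℤ)) ≅ AddCommGrpCat.of (Ext.{v} Z (K.X (p : ℤ)) q))) ∧
      ∀ p q : ℤ, ¬ (0 ≤ p ∧ 0 ≤ q) → IsZero ((E.page 1 le_rfl).X (p, q)) := by
  let Y := coSpecObj K Z
  have hl := isLowBounded_coSpecObj K Z
  have hh := isHighBounded_coSpecObj K Z
  haveI := isIso_stι K ⊤ (lt_top_iff_ne_top.2 (WithBotTop.coe_ne_top 0))
  obtain ⟨c⟩ := nonempty_cone_bot_iso K ⊤
  let cM : DerivedCategory.Q.obj (CochainComplex.mappingCone (stMap K (bot_le : ⊥ ≤ (⊤ : EInt)))) ≅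
      (DerivedCategory.singleFunctor A 0).obj M :=
    c ≪≫ asIso (DerivedCategory.Q.map (stι K ⊤)) ≪≫ (asIso (DerivedCategory.Q.map ι)).symm ≪≫
      ((DerivedCategory.singleFunctorIsoCompQ A 0).app M).symm
  have hη : ∀ n : ℤ, Nonempty (H n ≅ Hij Y n (bot_le : ⊥ ≤ (⊤ : EInt))) := fun n => by
    obtain ⟨e⟩ := nonempty_coHij_iso K Z (bot_le : ⊥ ≤ (⊤ : EInt)) n cM
    by_cases hn : 0 ≤ n
    · obtain ⟨m, rfl⟩ := Int.eq_ofNat_of_zero_le hn
      exact ⟨(hH m).some ≪≫ (Ext.homAddEquiv (X := Z) (Y := M) (n := m)).toAddCommGrpIso ≪≫ e.symm⟩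
    · exact ⟨(hH' n (by omega)).iso ((isZero_hom_shift Z _ 0 n (by omega)).of_iso e)⟩
  let η := fun n => (hη n).some
  obtain ⟨a, ha⟩ := Groth.L17.SpecObj.exists_abutment (Y := Y) η hl hh
  obtain ⟨a', ha', hb'⟩ := exists_decalage _ a ha (Groth.L17.SpecObj.isBounded hl hh)
  have key : ∀ p q : ℤ, Nonempty (((decalage Y.E₂SpectralSequence).page 1 le_rfl).X (p, q) ≅
      AddCommGrpCat.of ((DerivedCategory.singleFunctor A 0).obj Z ⟶
        ((DerivedCategory.singleFunctor A 0).obj (K.X p))⟦q⟧)) := fun p q => by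
    obtain ⟨c'⟩ := nonempty_slice_cone_iso K (-p)
    obtain ⟨e⟩ := nonempty_coHij_iso K Z (coe_le_succ (-p)) (2 * p + q + -p) c'
    refine ⟨pageTwoIso (2 * p + q) (-p) ≪≫ e ≪≫
      (preadditiveCoyoneda.obj (op ((DerivedCategory.singleFunctor A 0).obj Z))).mapIso ?_⟩
    exact ((DerivedCategory.singleFunctors A).shiftIso (2 * p + q + -p) (-q) (- -p) (by omega)).app (K.X (- -p)) ≪≫
      ((DerivedCategory.singleFunctors A).shiftIso q (-q) 0 (by omega)).symm.app (K.X (- -p)) ≪≫
      (shiftFunctor (DerivedCategory A) q).mapIso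
        ((DerivedCategory.singleFunctor A 0).mapIso (eqToIso (by rw [neg_neg])))
  refine ⟨_, a', ha', hb', fun p q => ?_, fun p q h => ?_⟩
  · obtain ⟨e⟩ := key p q
    exact ⟨e ≪≫ (Ext.homAddEquiv (X := Z) (Y := K.X (p : ℤ)) (n := q)).toAddCommGrpIso.symm⟩
  · obtain ⟨e⟩ := key p q
    refine IsZero.of_iso ?_ e
    by_cases hq : 0 ≤ q
    · exact (preadditiveCoyoneda.obj (op ((DerivedCategory.singleFunctor A 0).obj Z))).map_isZero
        ((shiftFunctor (DerivedCategory A) q).map_isZero ((DerivedCategory.singleFunctor A 0).map_isZero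
          (K.isZero_of_isStrictlyGE 0 p (by omega))))
    · exact isZero_hom_shift Z _ 0 q (by omega)

end Groth.L10.Descent
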