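import Groth.Prelude.Def_SpSeq
import Mathlib.Data.Set.Finite.Basic

/-! Décalage: an `E₂` spectral sequence read as an `E₁` spectral sequence. -/

universe v u

open CategoryTheory CategoryTheory.Limits

set_option backward.defeqAttrib.useBackward true
set_option backward.isDefEq.respectTransparency false
namespace Groth.L10.Descent

variable {C : Type u} [Category.{v} C] [Abelian C]

/-- The décalage of positions. -/
def dec (pq : ℤ × ℤ) : ℤ × ℤ := (2 * pq.1 + pq.2, -pq.1)

theorem dec_inj {a b : ℤ × ℤ} (h : dec a = dec b) : a = b := by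
  simp only [dec, Prod.mk.injEq] at h
  ext <;> omega

theorem rel_iff (r : ℤ) (a b : ℤ × ℤ) :
    (ComplexShape.up' (⟨r, 1 - r⟩ : ℤ × ℤ)).Rel a b ↔
      (ComplexShape.up' (⟨r + 1, 1 - (r + 1)⟩ : ℤ × ℤ)).Rel (dec a) (dec b) := by
  simp [dec, Prod.ext_iff]
  omega

/-- A page, reindexed. -/
noncomputable def decPage (r : ℤ) (K : HomologicalComplex C (ComplexShape.up' (⟨r + 1, 1 - (r + 1)⟩ : ℤ × ℤ))) :
    HomologicalComplex C (ComplexShape.up' (⟨r, 1 - r⟩ : ℤ × ℤ)) where
  X pq := K.X (dec pq)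
  d a b := K.d (dec a) (dec b)
  shape a b h := K.shape _ _ (fun h' => h ((rel_iff r a b).2 h'))
  d_comp_d' a b c _ _ := K.d_comp_d _ _ _

/-- Homology of a reindexed page. -/
noncomputable def decPageHomologyIso (r : ℤ) (K : HomologicalComplex C (ComplexShape.up' (⟨r + 1, 1 - (r + 1)⟩ : ℤ × ℤ)))
    (pq : ℤ × ℤ) : (decPage r K).homology pq ≅ K.homology (dec pq) :=
  (ShortComplex.homologyMapIso ((decPage r K).isoSc' (pq - (r, 1 - r)) pq (pq + (r, 1 - r))
      (ComplexShape.prev_eq' _ (show (ComplexShape.up' (⟨r, 1 - r⟩ : ℤ × ℤ)).Rel _ _ by simp))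
      (ComplexShape.next_eq' _ (show (ComplexShape.up' (⟨r, 1 - r⟩ : ℤ × ℤ)).Rel _ _ by simp)))) ≪≫
    (ShortComplex.homologyMapIso (K.isoSc' (dec (pq - (r, 1 - r))) (dec pq) (dec (pq + (r, 1 - r)))
      (ComplexShape.prev_eq' _ ((rel_iff r _ _).1 (by simp)))
      (ComplexShape.next_eq' _ ((rel_iff r _ _).1 (by simp))))).symm

/-- An `E₂` spectral sequence as an `E₁` spectral sequence. -/
noncomputable def decalage (E : E₂CohomologicalSpectralSequence C) : CohomologicalSpectralSequence C 1 where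
  page r hr := decPage r (E.page (r + 1) (by omega))
  iso r r' pq hrr' hr :=
    decPageHomologyIso r _ pq ≪≫ E.iso (r + 1) (r' + 1) (dec pq) (by omega) (by omega)

theorem subquot_congr {X : C} {Z Z' B B' : Subobject X} (h : B ≤ Z) (h' : B' ≤ Z') (eZ : Z = Z') (eB : B = B') :
    SpSeq.subquot Z B h = SpSeq.subquot Z' B' h' := by
  subst eZ eB
  rfl

theorem grPiece_shift {H : ℤ → C} (F : ∀ n, ℤ → Subobject (H n)) (hF : ∀ n, Antitone (F n))
    (hF' : ∀ n, Antitone fun p => F n (n + p)) {n m x p : ℤ} (h : n = m) (hx : x = m + p) :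
    SpSeq.grPiece (F n) (hF n) x = SpSeq.grPiece (fun p => F m (m + p)) (hF' m) p := by
  subst h hx
  exact subquot_congr _ _ rfl (congrArg (F n) (by omega))

theorem exists_decalage (E : E₂CohomologicalSpectralSequence C) {H : ℤ → C} (a : SpSeq.Abutment E H)
    (ha : ∀ n, a.IsFinite n) (hb : SpSeq.IsBounded E) :
    ∃ a' : SpSeq.Abutment (decalage E) H, (∀ n, a'.IsFinite n) ∧ SpSeq.IsBounded (decalage E) := by
  refine ⟨⟨fun n p => a.fil n (n + p), fun n p q h => a.anti n (by omega), fun pq => a.rk (dec pq) - 1,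
    fun pq => ⟨by have := (a.stat (dec pq)).1; omega, fun r' h₀ hr' => ?_⟩, fun pq => ?_⟩, fun n => ?_, fun n => ?_⟩
  · have h := (a.stat (dec pq)).2 (r' + 1) (by omega) (by omega)
    have e1 : dec (pq - (r', 1 - r')) = dec pq - (r' + 1, 1 - (r' + 1)) := by
      simp [dec, Prod.ext_iff]; omega
    have e2 : dec (pq + (r', 1 - r')) = dec pq + (r' + 1, 1 - (r' + 1)) := by
      simp [dec, Prod.ext_iff]; omega
    refine ⟨?_, ?_⟩
    · change (E.page (r' + 1) _).d (dec (pq - (r', 1 - r'))) (dec pq) = 0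
      rw [e1]; exact h.1
    · change (E.page (r' + 1) _).d (dec pq) (dec (pq + (r', 1 - r'))) = 0
      rw [e2]; exact h.2
  · exact E.pageXIsoOfEq (dec pq) (a.rk (dec pq) - 1 + 1) (a.rk (dec pq)) (by omega)
      (by have := (a.stat (dec pq)).1; omega) ≪≫ a.β (dec pq) ≪≫
      eqToIso (grPiece_shift a.fil a.anti (fun n _ _ h => a.anti n (by omega)) (by simp [dec]; omega) (by simp [dec]; omega))
  · obtain ⟨⟨x, hx⟩, ⟨y, hy⟩⟩ := ha n
    exact ⟨⟨x - n, (congrArg (a.fil n) (by omega : n + (x - n) = x)).trans hx⟩,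
      ⟨y - n, (congrArg (a.fil n) (by omega : n + (y - n) = y)).trans hy⟩⟩
  · refine ((hb n).image (fun x => x - n)).subset fun p hp => ⟨n + p, fun hz => hp (IsZero.of_iso hz (eqToIso ?_)), by simp⟩
    change (E.page (1 + 1) _).X (dec (p, n - p)) = (E.page 2 le_rfl).X (n + p, n - (n + p))
    congr 1
    simp [dec, Prod.ext_iff]; omega

end Groth.L10.Descent
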