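import Groth.Agent.L10.SiteCoh
import Groth.Agent.L09.MultiFlat
import Groth.Agent.L09.SpaceDescent
import Groth.Agent.L27.Hom.ExtAdj
import Mathlib.CategoryTheory.Abelian.GrothendieckCategory.EnoughInjectives
import Mathlib.CategoryTheory.Abelian.GrothendieckAxioms.Sheaf
import Mathlib.Algebra.Homology.DerivedCategory.Plus

/-! `Ext` out of free sheaves along a continuous, cocontinuous, multi-flat functor; `Ext` and full faithfulness. -/

universe w w' v v' u' u'' u

open CategoryTheory CategoryTheory.Limits CategoryTheory.Abelian Opposite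

set_option backward.defeqAttrib.useBackward true
set_option backward.isDefEq.respectTransparency false
set_option autoImplicit false
namespace Groth.L10.Descent

variable {C D : Type u} [SmallCategory C] [SmallCategory D] (G : C ⥤ D)
  (J : GrothendieckTopology C) (K : GrothendieckTopology D) [G.IsContinuous J K]

/-- Restriction. -/
noncomputable abbrev res : Sheaf K AddCommGrpCat.{u} ⥤ Sheaf J AddCommGrpCat.{u} :=
  G.sheafPushforwardContinuous AddCommGrpCat.{u} J K

/-- Its left adjoint. -/
noncomputable abbrev lft : Sheaf J AddCommGrpCat.{u} ⥤ Sheaf K AddCommGrpCat.{u} :=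
  G.sheafPullback AddCommGrpCat.{u} J K

/-- The left adjoint sends free sheaves to free sheaves. -/
noncomputable def lftFreeIso (U : C) : (lft G J K).obj (SiteCoh.fs J U) ≅ SiteCoh.fs K (G.obj U) :=
  let e : ∀ F : Sheaf K AddCommGrpCat.{u}, ((lft G J K).obj (SiteCoh.fs J U) ⟶ F) ≃ (SiteCoh.fs K (G.obj U) ⟶ F) :=
    fun F => ((G.sheafAdjunctionContinuous AddCommGrpCat.{u} J K).homEquiv _ F).trans
      ((SiteCoh.secEquiv J U ((res G J K).obj F)).toEquiv.trans (SiteCoh.secEquiv K (G.obj U) F).symm.toEquiv)
  (Coyoneda.fullyFaithful.preimageIso (NatIso.ofComponents (fun F => (e F).toIso) (fun {F F'} φ => by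
    ext g
    apply (SiteCoh.secEquiv K (G.obj U) F').injective
    simp [e, Adjunction.homEquiv_naturality_right]
    refine (SiteCoh.secEquiv_comp _ _).trans ?_
    simp [SiteCoh.secEquiv_comp]))).unop.symm

/-- `Ext` out of a free sheaf is computed on the source site. -/
theorem nonempty_ext_free_iso [G.IsCocontinuous J K] (hG : L09.MultiFlat.IsMultiFlat G) (U : C)
    (M : Sheaf K AddCommGrpCat.{u}) (n : ℕ) :
    Nonempty (Ext (SiteCoh.fs K (G.obj U)) M n ≃+ Ext (SiteCoh.fs J U) ((res G J K).obj M) n) := by
  let adj := G.sheafAdjunctionContinuous AddCommGrpCat.{u} J K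
  have : PreservesFiniteColimits (res G J K) := L09.Precomp.preservesFiniteColimits G
  have : PreservesFiniteLimits (lft G J K) := L09.MultiFlat.preservesFiniteLimits_pullback G J K hG
  have hac : ∀ q : ℕ, 0 < q → IsZero (((res G J K).rightDerived q).obj M) := fun q hq => by
    let R := injectiveResolution M
    refine IsZero.of_iso ?_ (R.isoRightDerivedObj (res G J K) q)
    change IsZero ((((res G J K).mapHomologicalComplex (ComplexShape.up ℕ)).obj R.cocomplex).homology q)
    rw [← HomologicalComplex.exactAt_iff_isZero_homology]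
    exact ShortComplex.Exact.map (HomologicalComplex.exactAt_iff _ _ |>.1
      (by obtain ⟨k, rfl⟩ := Nat.exists_eq_succ_of_ne_zero hq.ne'; exact R.cocomplex_exactAt_succ k)) (res G J K)
  let φ : Ext (SiteCoh.fs J U) ((res G J K).obj M) n →+ Ext ((lft G J K).obj (SiteCoh.fs J U)) M n :=
    AddMonoidHom.mk' (L27.ExtAdj.phi adj (SiteCoh.fs J U) M n)
      (fun a b => by simp [L27.ExtAdj.phi, Ext.mapExactFunctor_add, Ext.add_comp])
  let c := lftFreeIso G J K U
  let ψ : Ext ((lft G J K).obj (SiteCoh.fs J U)) M n ≃+ Ext (SiteCoh.fs K (G.obj U)) M n :=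
    { toFun := fun x => (Ext.mk₀ c.inv).comp x (zero_add n)
      invFun := fun x => (Ext.mk₀ c.hom).comp x (zero_add n)
      left_inv := fun x => by simp
      right_inv := fun x => by simp
      map_add' := fun x y => by simp }
  exact ⟨(((AddEquiv.ofBijective φ (L27.ExtAdj.bijective_phi adj n M hac)).trans ψ)).symm⟩

/-- An exact functor inducing bijections on bounded below derived categories induces bijections on `Ext`. -/
theorem mapExt_bijective_of_plus {A : Type u'} [Category.{v} A] [Abelian A] {B : Type u''} [Category.{v'} B]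
    [Abelian B] [HasExt.{w} A] [HasExt.{w'} B] (F : A ⥤ B) [F.Additive] [PreservesFiniteLimits F]
    [PreservesFiniteColimits F]
    (h : letI := HasDerivedCategory.standard A; letI := HasDerivedCategory.standard B
      ∀ K L : DerivedCategory.Plus A, Function.Bijective fun g : K.obj ⟶ L.obj => F.mapDerivedCategory.map g)
    (X Y : A) (n : ℕ) : Function.Bijective (F.mapExtAddHom X Y n : Ext.{w} X Y n → Ext.{w'} (F.obj X) (F.obj Y) n) := by
  letI := HasDerivedCategory.standard A
  letI := HasDerivedCategory.standard B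
  let K : DerivedCategory.Plus A :=
    ⟨(DerivedCategory.singleFunctor A 0).obj X, ⟨0, inferInstance⟩⟩
  let L : DerivedCategory.Plus A :=
    ⟨((DerivedCategory.singleFunctor A 0).obj Y)⟦(n : ℤ)⟧,
      ⟨0 - (n : ℤ), DerivedCategory.TStructure.t.isGE_shift _ 0 (n : ℤ) _ (by omega)⟩⟩
  let e : ((DerivedCategory.singleFunctor A 0).obj X ⟶ ((DerivedCategory.singleFunctor A 0).obj Y)⟦(n : ℤ)⟧) ≃
      ((DerivedCategory.singleFunctor B 0).obj (F.obj X) ⟶ ((DerivedCategory.singleFunctor B 0).obj (F.obj Y))⟦(n : ℤ)⟧) :=
    (Equiv.ofBijective _ (h K L)).trans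
      (((F.mapDerivedCategorySingleFunctor 0).app X).homCongr
        ((F.mapDerivedCategory.commShiftIso (n : ℤ)).app _ ≪≫
          (shiftFunctor _ (n : ℤ)).mapIso ((F.mapDerivedCategorySingleFunctor 0).app Y)))
  have he : (fun x : Ext.{w} X Y n => F.mapExtAddHom X Y n x) =
      Ext.homEquiv.symm ∘ e ∘ Ext.homEquiv := by
    funext x
    apply Ext.homEquiv.injective
    rw [Function.comp_apply, Function.comp_apply, Equiv.apply_symm_apply]
    refine (Ext.mapExactFunctor_hom F x).trans ?_
    simp only [e, Equiv.trans_apply, Equiv.ofBijective_apply, ShiftedHom.map, Category.assoc]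
    rfl
  change Function.Bijective (fun x : Ext.{w} X Y n => F.mapExtAddHom X Y n x)
  rw [he]
  exact Ext.homEquiv.symm.bijective.comp (e.bijective.comp Ext.homEquiv.bijective)

end Groth.L10.Descent
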