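import Groth.Agent.L10.Descent.Decalage
import Groth.Agent.L17.SpecObjHom
import Groth.Agent.L17.HomDerived
import Groth.Agent.L10.KInjDerived
import Mathlib.Algebra.Homology.HomotopyCategory.SpectralObject
import Mathlib.Algebra.Homology.HomotopyCategory.HomologicalFunctor
import Mathlib.Algebra.Homology.HomotopyCategory.ShortExact
import Mathlib.Algebra.Category.Grp.EpiMono

/-! The spectral sequence of a resolution. -/

universe v u

open CategoryTheory CategoryTheory.Limits CategoryTheory.Abelian CochainComplex CochainComplex.HomComplex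

set_option backward.defeqAttrib.useBackward true
set_option backward.isDefEq.respectTransparency false
set_option autoImplicit false
namespace Groth.L10.Descent

variable {A : Type u} [Category.{v} A] [Abelian A] (P I : CochainComplex A ℤ)

/-- Cochains vanishing from degree `i` on. -/
def filSub (i : EInt) (n : ℤ) : AddSubgroup (Cochain P I n) where
  carrier := {z | ∀ (p q : ℤ) (h : p + n = q), i ≤ (p : EInt) → z.v p q h = 0}
  zero_mem' := fun p q h _ => rfl
  add_mem' := fun {a b} ha hb p q h hi => by rw [Cochain.add_v, ha p q h hi, hb p q h hi, add_zero]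
  neg_mem' := fun {a} ha p q h hi => by rw [Cochain.neg_v, ha p q h hi, neg_zero]

theorem δ_mem (i : EInt) (n m : ℤ) (z : Cochain P I n) (hz : z ∈ filSub P I i n) :
    δ n m z ∈ filSub P I i m := by
  by_cases hnm : n + 1 = m
  · intro p q h hi
    rw [δ_v n m hnm z p q h (q - 1) (p + 1) rfl rfl, hz p (q - 1) (by omega) hi,
      hz (p + 1) q (by omega) (hi.trans (by simp))]
    simp
  · rw [δ_shape _ _ hnm]
    exact zero_mem _

/-- The filtration step as a complex. -/
noncomputable def filCx (i : EInt) : CochainComplex AddCommGrpCat.{v} ℤ where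
  X n := AddCommGrpCat.of (filSub P I i n)
  d n m := AddCommGrpCat.ofHom (((δ_hom ℤ P I n m).toAddMonoidHom.comp (filSub P I i n).subtype).codRestrict
    (filSub P I i m) fun z => δ_mem P I i n m z.1 z.2)
  shape n m h := by
    apply AddCommGrpCat.hom_ext
    exact AddMonoidHom.ext fun z => Subtype.ext (δ_shape n m h z.1)
  d_comp_d' n m k _ _ := by
    apply AddCommGrpCat.hom_ext
    exact AddMonoidHom.ext fun z => Subtype.ext (δ_δ n m k z.1)

theorem filSub_mono {i j : EInt} (h : i ≤ j) (n : ℤ) : filSub P I i n ≤ filSub P I j n :=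
  fun _ hz p q hpq hi => hz p q hpq (h.trans hi)

/-- The inclusion of filtration steps. -/
noncomputable def filMap {i j : EInt} (h : i ≤ j) : filCx P I i ⟶ filCx P I j where
  f n := AddCommGrpCat.ofHom (AddSubgroup.inclusion (filSub_mono P I h n))
  comm' n m _ := by ext z; rfl

/-- The filtration as a functor. -/
noncomputable def filFunctor : EInt ⥤ CochainComplex AddCommGrpCat.{v} ℤ where
  obj := filCx P I
  map f := filMap P I (leOfHom f)
  map_id i := by ext n z; rfl
  map_comp f g := by ext n z; rfl

/-- The spectral object of the filtration. -/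
noncomputable def specObj : Abelian.SpectralObject AddCommGrpCat.{v} EInt :=
  Groth.L17.SpecObj.mapHomological
    ((HomotopyCategory.spectralObjectMappingCone AddCommGrpCat.{v}).precomp (filFunctor P I))
    (HomotopyCategory.homologyFunctor AddCommGrpCat.{v} (.up ℤ) 0)

/-- The short complex of a step. -/
noncomputable def filSES {i j : EInt} (h : i ≤ j) : ShortComplex (CochainComplex AddCommGrpCat.{v} ℤ) :=
  ShortComplex.mk (filMap P I h) (cokernel.π (filMap P I h)) (cokernel.condition _)

theorem filSES_shortExact {i j : EInt} (h : i ≤ j) : (filSES P I h).ShortExact := by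
  have : ∀ n, Mono ((filMap P I h).f n) := fun n =>
    (AddCommGrpCat.mono_iff_injective _).2 fun a b hab => Subtype.ext (congrArg Subtype.val hab :)
  have : Mono (filSES P I h).f := HomologicalComplex.mono_of_mono_f _ this
  have : Epi (filSES P I h).g := inferInstanceAs (Epi (cokernel.π (filMap P I h)))
  exact { exact := ShortComplex.exact_cokernel _ }

/-- Pieces of the spectral object are homology of cokernels. -/
theorem nonempty_Hij_iso {i j : EInt} (h : i ≤ j) (n : ℤ) :
    Nonempty (Groth.L17.SpecObj.Hij (specObj P I) n h ≅ (cokernel (filMap P I h)).homology n) := by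
  have := CochainComplex.mappingCone.quasiIso_descShortComplex (filSES_shortExact P I h)
  refine ⟨?_ ≪≫ asIso (HomologicalComplex.homologyMap (CochainComplex.mappingCone.descShortComplex (filSES P I h)) n)⟩
  exact (HomotopyCategory.homologyFunctorFactors AddCommGrpCat.{v} (.up ℤ) n).app _

theorem isZero_Hij {i j : EInt} (h : i ≤ j) (n : ℤ) (hsurj : ∀ z ∈ filSub P I j n, z ∈ filSub P I i n) :
    IsZero (Groth.L17.SpecObj.Hij (specObj P I) n h) := by
  obtain ⟨e⟩ := nonempty_Hij_iso P I h n
  refine IsZero.of_iso ?_ e
  rw [← HomologicalComplex.exactAt_iff_isZero_homology]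
  refine ShortComplex.exact_of_isZero_X₂ _ ?_
  change IsZero ((cokernel (filMap P I h)).X n)
  have : Epi ((filMap P I h).f n) := (AddCommGrpCat.epi_iff_surjective _).2 fun z => ⟨⟨z.1, hsurj z.1 z.2⟩, rfl⟩
  have h0 : (filMap P I h).f n ≫ (cokernel.π (filMap P I h)).f n = 0 := by
    rw [← HomologicalComplex.comp_f, cokernel.condition]; rfl
  exact IsZero.of_epi_eq_zero _ ((cancel_epi ((filMap P I h).f n)).1 (h0.trans comp_zero.symm))

end Groth.L10.Descent
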