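import Groth.Agent.L10.Descent.HomFil
import Mathlib.Algebra.Homology.ShortComplex.Ab
import Mathlib.CategoryTheory.Abelian.Injective.Ext
import Mathlib.Algebra.Category.Grp.Zero

/-! The `E₁` spectral sequence of a resolution, converging to `Ext`. -/

universe v u

open CategoryTheory CategoryTheory.Limits CategoryTheory.Abelian CochainComplex CochainComplex.HomComplex

set_option backward.defeqAttrib.useBackward true
set_option backward.isDefEq.respectTransparency false
set_option autoImplicit false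
namespace Groth.L10.Descent

open Groth.L17.SpecObj (Hij coe_le_succ IsLowBounded IsHighBounded pageTwoIso)
open Groth.L17.GrothSS (homFun homComplexIso)

variable {A : Type u} [Category.{v} A] [Abelian A] (P I : CochainComplex A ℤ)

/-- The complex of maps out of one term of `P`. -/
noncomputable def sliceCx (i : ℤ) : CochainComplex AddCommGrpCat.{v} ℤ where
  X k := AddCommGrpCat.of (P.X i ⟶ I.X (i + k))
  d k l := AddCommGrpCat.ofHom (Preadditive.rightComp (P.X i) (I.d (i + k) (i + l)))
  shape k l h := by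
    apply AddCommGrpCat.hom_ext
    refine AddMonoidHom.ext fun f => ?_
    change f ≫ I.d _ _ = 0
    rw [I.shape _ _ (fun h' => h (by simp only [ComplexShape.up_Rel] at h' ⊢; omega)), comp_zero]
  d_comp_d' k l m _ _ := by
    apply AddCommGrpCat.hom_ext
    refine AddMonoidHom.ext fun f => ?_
    change (f ≫ I.d _ _) ≫ I.d _ _ = 0
    rw [Category.assoc, I.d_comp_d, comp_zero]

/-- Its homology. -/
noncomputable def sliceHomologyIso (i k : ℤ) :
    (sliceCx P I i).homology k ≅ (((homFun (P.X i)).mapHomologicalComplex (.up ℤ)).obj I).homology (i + k) :=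
  ShortComplex.homologyMapIso ((sliceCx P I i).isoSc' (k - 1) k (k + 1) (by simp) (by simp)) ≪≫
    (ShortComplex.homologyMapIso ((((homFun (P.X i)).mapHomologicalComplex (.up ℤ)).obj I).isoSc'
      (i + (k - 1)) (i + k) (i + (k + 1)) (by simp; omega) (by simp; omega))).symm

/-- Restriction to one term. -/
noncomputable def sliceRes (i : ℤ) : filCx P I ((i + 1 : ℤ) : EInt) ⟶ sliceCx P I i where
  f k := AddCommGrpCat.ofHom
    { toFun := fun z => z.1.v i (i + k) rfl
      map_zero' := rfl
      map_add' := fun _ _ => rfl }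
  comm' k l hkl := by
    obtain rfl : k + 1 = l := hkl
    apply AddCommGrpCat.hom_ext
    refine AddMonoidHom.ext fun z => ?_
    change z.1.v i (i + k) rfl ≫ I.d (i + k) (i + (k + 1)) = (δ k (k + 1) z.1).v i (i + (k + 1)) rfl
    rw [δ_v k (k + 1) rfl z.1 i (i + (k + 1)) rfl (i + k) (i + 1) (by omega) rfl,
      z.2 (i + 1) (i + (k + 1)) (by omega) le_rfl]
    simp

theorem coe_le (a b : ℤ) : (a : EInt) ≤ (b : EInt) ↔ a ≤ b := by simp

theorem filMap_sliceRes (i : ℤ) : filMap P I (coe_le_succ i) ≫ sliceRes P I i = 0 := by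
  ext k : 1
  apply AddCommGrpCat.hom_ext
  exact AddMonoidHom.ext fun z => z.2 i (i + k) rfl le_rfl

theorem slice_shortExact (i : ℤ) : (ShortComplex.mk _ _ (filMap_sliceRes P I i)).ShortExact := by
  refine HomologicalComplex.shortExact_of_degreewise_shortExact _ fun k => ?_
  refine { exact := ?_, mono_f := ?_, epi_g := ?_ }
  · rw [ShortComplex.ab_exact_iff]
    intro z hz
    refine ⟨⟨z.1, fun p q h hp => ?_⟩, Subtype.ext rfl⟩
    rcases ((coe_le i p).1 hp).eq_or_lt with rfl | hlt
    · obtain rfl : i + k = q := h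
      exact hz
    · exact z.2 p q h ((coe_le _ _).2 hlt)
  · exact (AddCommGrpCat.mono_iff_injective _).2 fun a b hab => Subtype.ext (congrArg Subtype.val hab :)
  · refine (AddCommGrpCat.epi_iff_surjective _).2 fun f => ?_
    let z : Cochain P I k := Cochain.mk fun p q h =>
      if hp : p = i then (P.XIsoOfEq hp).hom ≫ (f : P.X i ⟶ I.X (i + k)) ≫ (I.XIsoOfEq (by omega)).hom else 0
    refine ⟨⟨z, fun p q h hp => ?_⟩, ?_⟩
    · have := (coe_le _ _).1 hp
      simp [z, show p ≠ i by omega]
    · change z.v i (i + k) rfl = f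
      simp [z]

theorem nonempty_slice_iso (i k : ℤ) :
    Nonempty (Hij (specObj P I) k (coe_le_succ i) ≅
      (((homFun (P.X i)).mapHomologicalComplex (.up ℤ)).obj I).homology (i + k)) := by
  obtain ⟨e⟩ := nonempty_Hij_iso P I (coe_le_succ i) k
  exact ⟨e ≪≫ (HomologicalComplex.homologyFunctor _ _ k).mapIso
    ((cokernelIsCokernel (filMap P I (coe_le_succ i))).coconePointUniqueUpToIso
      (slice_shortExact P I i).gIsCokernel) ≪≫ sliceHomologyIso P I i k⟩

/-- The whole filtered complex is the complex of cochains. -/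
noncomputable def filTopIso : filCx P I ⊤ ≅ CochainComplex.HomComplex P I :=
  HomologicalComplex.Hom.isoOfComponents
    (fun n => AddEquiv.toAddCommGrpIso
      { toFun := fun z => z.1
        invFun := fun z => ⟨z, fun p q _ hp => absurd hp (by simp [WithBotTop.coe])⟩
        left_inv := fun _ => rfl
        right_inv := fun _ => rfl
        map_add' := fun _ _ => rfl })
    (fun n m _ => rfl)

theorem isZero_filCx_bot : IsZero (filCx P I ⊥) := by
  refine (IsZero.iff_id_eq_zero _).2 ?_
  ext n : 1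
  apply AddCommGrpCat.hom_ext
  exact AddMonoidHom.ext fun z => Subtype.ext (Cochain.ext _ _ fun p q h => z.2 p q h bot_le)

theorem nonempty_top_iso (n : ℤ) :
    Nonempty (Hij (specObj P I) n (bot_le : ⊥ ≤ (⊤ : EInt)) ≅ (CochainComplex.HomComplex P I).homology n) := by
  obtain ⟨e⟩ := nonempty_Hij_iso P I (bot_le : ⊥ ≤ (⊤ : EInt)) n
  have h0 : filMap P I (bot_le : ⊥ ≤ (⊤ : EInt)) = 0 := (isZero_filCx_bot P I).eq_of_src _ _
  exact ⟨e ≪≫ (HomologicalComplex.homologyFunctor _ _ n).mapIso
    (cokernelIsoOfEq h0 ≪≫ cokernelZeroIsoTarget ≪≫ filTopIso P I)⟩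

variable [P.IsStrictlyLE 0] [I.IsStrictlyGE 0]

theorem isLowBounded : IsLowBounded (specObj P I) := fun n => ⟨-n, fun b hb =>
  isZero_Hij P I _ n fun z hz p q h hp => by
    by_cases hpb : b ≤ p
    · exact hz p q h ((coe_le _ _).2 hpb)
    · exact (I.isZero_of_isStrictlyGE 0 q (by omega)).eq_of_tgt _ _⟩

theorem isHighBounded : IsHighBounded (specObj P I) := fun n => ⟨1, fun b hb =>
  isZero_Hij P I _ n fun z _ p q h hp =>
    (P.isZero_of_isStrictlyLE 0 p (by have := (coe_le _ _).1 hp; omega)).eq_of_src _ _⟩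

end Groth.L10.Descent

namespace Groth.L10.Descent

open Groth.L17.SpecObj (Hij coe_le_succ pageTwoIso)
open Groth.L17.GrothSS (homFun homComplexIso)

variable {A : Type u} [Category.{v} A] [Abelian A] [EnoughInjectives A] [HasExt.{v} A]

/-- `Ext` via an injective resolution. -/
noncomputable def homFunHomologyIso {M : A} (R : InjectiveResolution M) (X : A) (n : ℕ) :
    (((homFun X).mapHomologicalComplex (.up ℤ)).obj R.cochainComplex).homology (n : ℤ) ≅
      AddCommGrpCat.of (Ext.{v} X M n) :=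
  (HomologicalComplex.homologyFunctor AddCommGrpCat.{v} (.up ℤ) (n : ℤ)).mapIso
      (homComplexIso X R.cochainComplex).symm ≪≫
    AddEquiv.toAddCommGrpIso ((homologyAddEquiv _ _ _).trans R.extAddEquivCohomologyClass.symm)

/-- Precomposition as an additive equivalence. -/
noncomputable def homologyPrecompEquiv {P P' : CochainComplex A ℤ} (π : P ⟶ P') [QuasiIso π] (I : CochainComplex A ℤ)
    [I.IsKInjective] (n : ℤ) :
    (CochainComplex.HomComplex P I).homology n ≃+ (CochainComplex.HomComplex P' I).homology n :=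
  ((homologyAddEquiv P I n).trans CohomologyClass.homAddEquiv).trans
    ((AddEquiv.ofBijective (Preadditive.leftComp _ ((HomotopyCategory.quotient A (.up ℤ)).map π))
        (KInjDerived.precomp_bijective _ ((HomotopyCategory.quotient_map_mem_quasiIso_iff π).2 (inferInstanceAs (QuasiIso π)))
          ⟨(HomotopyCategory.quotient A (.up ℤ)).obj (I⟦n⟧), inferInstanceAs (I⟦n⟧).IsKInjective⟩)).symm.trans
      ((homologyAddEquiv P' I n).trans CohomologyClass.homAddEquiv).symm)

/-- The spectral sequence of a resolution `P → Z`: `E₁^{p,q} = Ext^q(P^{-p}, M) ⇒ Ext^{p+q}(Z, M)`. -/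
theorem exists_spectralSequence (P : CochainComplex A ℤ) [P.IsStrictlyLE 0] (Z M : A)
    (π : P ⟶ (CochainComplex.singleFunctor A 0).obj Z) [QuasiIso π]
    (H : ℤ → AddCommGrpCat.{v}) (hH : ∀ n : ℕ, Nonempty (H n ≅ AddCommGrpCat.of (Ext.{v} Z M n)))
    (hH' : ∀ n : ℤ, n < 0 → IsZero (H n)) :
    ∃ (E : CohomologicalSpectralSequence AddCommGrpCat.{v} 1) (a : SpSeq.Abutment E H),
      (∀ n, a.IsFinite n) ∧ SpSeq.IsBounded E ∧
      (∀ p q : ℕ, Nonempty ((E.page 1 le_rfl).X ((p : ℤ), (q : ℤ)) ≅ AddCommGrpCat.of (Ext.{v} (P.X (-(p : ℤ))) M q))) ∧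
      ∀ p q : ℤ, ¬ (0 ≤ p ∧ 0 ≤ q) → IsZero ((E.page 1 le_rfl).X (p, q)) := by
  let R := injectiveResolution M
  let I := R.cochainComplex
  haveI : I.IsKInjective := CochainComplex.isKInjective_of_injective I 0
  let Y := specObj P I
  have hl := isLowBounded P I
  have hh := isHighBounded P I
  have hη : ∀ n : ℤ, Nonempty (H n ≅ Hij Y n (bot_le : ⊥ ≤ (⊤ : EInt))) := fun n => by
    obtain ⟨e⟩ := nonempty_top_iso P I n
    let e' := e ≪≫ AddEquiv.toAddCommGrpIso (homologyPrecompEquiv π I n) ≪≫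
      (HomologicalComplex.homologyFunctor _ _ n).mapIso (homComplexIso Z I)
    by_cases hn : 0 ≤ n
    · obtain ⟨m, rfl⟩ := Int.eq_ofNat_of_zero_le hn
      exact ⟨(hH m).some ≪≫ (homFunHomologyIso R Z m).symm ≪≫ e'.symm⟩
    · have : CochainComplex.IsStrictlyGE (((homFun Z).mapHomologicalComplex (.up ℤ)).obj I) 0 := inferInstance
      exact ⟨(hH' n (by omega)).iso (IsZero.of_iso
        ((CochainComplex.exactAt_of_isGE (((homFun Z).mapHomologicalComplex (.up ℤ)).obj I) 0 n (by omega)).isZero_homology) e')⟩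
  let η := fun n => (hη n).some
  obtain ⟨a, ha⟩ := Groth.L17.SpecObj.exists_abutment (Y := Y) η hl hh
  obtain ⟨a', ha', hb'⟩ := exists_decalage _ a ha (Groth.L17.SpecObj.isBounded hl hh)
  have key : ∀ p q : ℤ, Nonempty (((decalage Y.E₂SpectralSequence).page 1 le_rfl).X (p, q) ≅
      (((homFun (P.X (-p))).mapHomologicalComplex (.up ℤ)).obj I).homology q) := fun p q => by
    obtain ⟨e⟩ := nonempty_slice_iso P I (-p) (2 * p + q + -p)
    exact ⟨pageTwoIso (2 * p + q) (-p) ≪≫ e ≪≫ eqToIso (by congr 1; omega)⟩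
  refine ⟨_, a', ha', hb', fun p q => ?_, fun p q h => ?_⟩
  · obtain ⟨e⟩ := key p q
    exact ⟨e ≪≫ homFunHomologyIso R _ q⟩
  · obtain ⟨e⟩ := key p q
    refine IsZero.of_iso ?_ e
    rw [← HomologicalComplex.exactAt_iff_isZero_homology]
    by_cases hq : 0 ≤ q
    · refine ShortComplex.exact_of_isZero_X₂ _ ?_
      have : Subsingleton (AddCommGrpCat.of (P.X (-p) ⟶ I.X q)) :=
        ⟨fun f g => (P.isZero_of_isStrictlyLE 0 (-p) (by omega)).eq_of_src f g⟩
      exact AddCommGrpCat.isZero_of_subsingleton (AddCommGrpCat.of (P.X (-p) ⟶ I.X q))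
    · exact CochainComplex.exactAt_of_isGE _ 0 q (by omega)

end Groth.L10.Descent
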