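import Groth.Agent.L10.Descent.TotalResolution
import Groth.Agent.L10.Descent.ResolutionSS
import Groth.Agent.L10.Descent.FibreExt
import Groth.Agent.L09.SheafBC

/-! The descent spectral sequence of an augmented simplicial space of cohomological descent. -/

universe u

open CategoryTheory CategoryTheory.Limits CategoryTheory.Abelian Opposite Simplicial TopologicalSpace
open Pseudofunctor.CoGrothendieck
open Groth.L09.SpaceSite Groth.L09

set_option backward.defeqAttrib.useBackward true
set_option backward.isDefEq.respectTransparency false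
set_option backward.isDefEq.respectTransparency.types false
set_option autoImplicit false
namespace Groth.L10.Descent

variable (Y : (WithInitial SimplexCategory)ᵒᵖ ⥤ TopCat.{u})

/-- The arrow to the base point. -/
noncomputable abbrev toBot (i : (WithInitial SimplexCategory)ᵒᵖ) : i ⟶ FibDesc.bot SimplexCategory :=
  (WithInitial.starInitial (C := SimplexCategory)).op.from i

/-- The opens of one space of the family. -/
noncomputable abbrev inA (i : (WithInitial SimplexCategory)ᵒᵖ) : Opens (Y.obj i) ⥤ ∫ᶜ (FibDesc.topAug Y) :=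
  ι (FibDesc.topAug Y) i

instance inA_continuous (i : (WithInitial SimplexCategory)ᵒᵖ) :
    (inA Y i).IsContinuous (Opens.grothendieckTopology (Y.obj i)) (JA Y) :=
  FibSiteTop.isContinuous_ι (SpaceSite.isPreFibSite Y) i

instance inA_cocontinuous (i : (WithInitial SimplexCategory)ᵒᵖ) :
    (inA Y i).IsCocontinuous (Opens.grothendieckTopology (Y.obj i)) (JA Y) :=
  FibSiteTop.isCocontinuous_ι (SpaceSite.isPreFibSite Y) i

/-- The opens of one level. -/
noncomputable abbrev inP (i : SimplexCategoryᵒᵖ) :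
    Opens (Y.obj ((FibDesc.toAug SimplexCategory).obj i)) ⥤ Tot Y :=
  ι (FibDesc.part (FibDesc.topAug Y)) i

instance inP_continuous (i : SimplexCategoryᵒᵖ) :
    (inP Y i).IsContinuous (Opens.grothendieckTopology (Y.obj ((FibDesc.toAug SimplexCategory).obj i))) (JP Y) :=
  FibSiteTop.isContinuous_ι (SpaceSite.isPreFibSite_part Y) i

instance inP_cocontinuous (i : SimplexCategoryᵒᵖ) :
    (inP Y i).IsCocontinuous (Opens.grothendieckTopology (Y.obj ((FibDesc.toAug SimplexCategory).obj i))) (JP Y) :=
  FibSiteTop.isCocontinuous_ι (SpaceSite.isPreFibSite_part Y) i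

/-- Sheaves on the total site. -/
abbrev ShA := Sheaf (JA Y) AddCommGrpCat.{u}

/-- Restriction to one space. -/
noncomputable abbrev rA (i : (WithInitial SimplexCategory)ᵒᵖ) : ShA Y ⥤ CohTop.Ab (Y.obj i) :=
  res (inA Y i) (Opens.grothendieckTopology (Y.obj i)) (JA Y)

/-- Right Kan extension from one space. -/
noncomputable abbrev cA (i : (WithInitial SimplexCategory)ᵒᵖ) : CohTop.Ab (Y.obj i) ⥤ ShA Y :=
  (inA Y i).sheafPushforwardCocontinuous AddCommGrpCat.{u} (Opens.grothendieckTopology (Y.obj i)) (JA Y)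

/-- The preimage of an open of the base. -/
noncomputable abbrev pre (i : (WithInitial SimplexCategory)ᵒᵖ) (U : Opens (Y.obj (FibDesc.bot SimplexCategory))) :
    Opens (Y.obj i) :=
  (Opens.map (Y.map (toBot i))).obj U

/-- The arrow from the preimage. -/
noncomputable abbrev preHom (i : (WithInitial SimplexCategory)ᵒᵖ) (U : Opens (Y.obj (FibDesc.bot SimplexCategory))) :
    (inA Y i).obj (pre Y i U) ⟶ (inA Y (FibDesc.bot SimplexCategory)).obj U :=
  hom (toBot i) le_rfl

/-- It is universal. -/
noncomputable def preInitial (i : (WithInitial SimplexCategory)ᵒᵖ) (U : Opens (Y.obj (FibDesc.bot SimplexCategory))) :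
    IsInitial (StructuredArrow.mk (S := op ((inA Y (FibDesc.bot SimplexCategory)).obj U)) (T := (inA Y i).op)
      (Y := op (pre Y i U)) (preHom Y i U).op) := by
  let k : ∀ g : StructuredArrow (op ((inA Y (FibDesc.bot SimplexCategory)).obj U)) (inA Y i).op,
      g.right.unop ⟶ pre Y i U := fun g => le_hom (fun z hz => by
    have h := hom_le g.hom.unop hz
    rw [(subsingleton_toBot _).elim g.hom.unop.base (toBot i)] at h
    exact h)
  refine IsInitial.ofUniqueHom (fun g => StructuredArrow.homMk (k g).op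
    (Quiver.Hom.unop_inj (hom_ext ((subsingleton_toBot _).elim _ _)))) (fun g m => ?_)
  exact StructuredArrow.ext _ _ (Quiver.Hom.unop_inj (Subsingleton.elim _ _))

/-- Restriction to the base of a right Kan extension from one space is the direct image. -/
noncomputable def pushIso (i : (WithInitial SimplexCategory)ᵒᵖ) :
    cA Y i ⋙ rA Y (FibDesc.bot SimplexCategory) ≅ CohTop.push (Y.map (toBot i)) :=
  NatIso.ofComponents (fun Z => (fullyFaithfulSheafToPresheaf _ _).preimageIso
    (NatIso.ofComponents (fun U =>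
      @asIso _ _ _ _
        (((inA Y i).op.ran.obj Z.obj).map (preHom Y i U.unop).op ≫
          ((inA Y i).op.ranCounit.app Z.obj).app (op (pre Y i U.unop)))
        (IsLimit.isIso_π_app_of_isInitial
          ((inA Y i).op.isPointwiseRightKanExtensionRanCounit Z.obj _) _ (preInitial Y i U.unop)))
      (fun {U V} f => by
        dsimp
        let R := (inA Y i).op.ran.obj Z.obj
        show (R.map _ ≫ R.map _) ≫ _ = (R.map _ ≫ _) ≫ _
        rw [← Functor.map_comp, Category.assoc]
        refine Eq.trans ?_ (congrArg (_ ≫ ·) (((inA Y i).op.ranCounit.app Z.obj).naturality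
          ((Opens.map (Y.map (toBot i))).op.map f)))
        dsimp
        rw [← Category.assoc, ← Functor.map_comp]
        congr 2)))
    (fun {Z Z'} φ => by
      refine Sheaf.hom_ext (NatTrans.ext (funext fun U => ?_))
      have h := NatTrans.congr_app ((inA Y i).op.ranCounit.naturality φ.hom) (op (pre Y i U.unop))
      dsimp at h ⊢
      erw [← NatTrans.naturality_assoc]
      rw [Category.assoc]
      congr 1)

/-- The inverse image of the augmentation, level by level. -/
noncomputable def extResIso (i : (WithInitial SimplexCategory)ᵒᵖ) :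
    SpaceCrit.Ext Y ⋙ rA Y i ≅ CohTop.pull (Y.map (toBot i)) :=
  ((SpaceCrit.ae Y).comp
      ((inA Y i).sheafAdjunctionCocontinuous AddCommGrpCat.{u} (Opens.grothendieckTopology (Y.obj i)) (JA Y))).leftAdjointUniq
    ((TopCat.Sheaf.pullbackPushforwardAdjunction AddCommGrpCat.{u} (Y.map (toBot i))).ofNatIsoRight (pushIso Y i).symm)

/-- The inverse image restricted to a level. -/
theorem nonempty_res_pull_iso (i : SimplexCategoryᵒᵖ) (F : CohTop.Ab (Y.obj (FibDesc.bot SimplexCategory))) :
    Nonempty ((res (inP Y i) (Opens.grothendieckTopology (Y.obj ((FibDesc.toAug SimplexCategory).obj i))) (JP Y)).obj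
        ((SpaceCrit.pull Y).obj F) ≅
      (CohTop.pull (Y.map (toBot ((FibDesc.toAug SimplexCategory).obj i)))).obj F) := by
  let e : inP Y i ⋙ FibDesc.incl (FibDesc.topAug Y) ≅ inA Y ((FibDesc.toAug SimplexCategory).obj i) :=
    NatIso.ofComponents (fun _ => Iso.refl _) fun _ => hom_ext (by
      show (FibDesc.toAug SimplexCategory).map (𝟙 i) ≫ 𝟙 _ = 𝟙 _ ≫ 𝟙 _
      simp)
  exact ⟨((fullyFaithfulSheafToPresheaf
      (Opens.grothendieckTopology (Y.obj ((FibDesc.toAug SimplexCategory).obj i))) AddCommGrpCat.{u}).preimageIso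
    (X := (rA Y ((FibDesc.toAug SimplexCategory).obj i)).obj ((SpaceCrit.Ext Y).obj F))
    (Y := (res (inP Y i) (Opens.grothendieckTopology (Y.obj ((FibDesc.toAug SimplexCategory).obj i))) (JP Y)).obj
        ((SpaceCrit.pull Y).obj F))
    (Functor.isoWhiskerRight (NatIso.op e) ((SpaceCrit.Ext Y).obj F).obj)).symm ≪≫
      (extResIso Y ((FibDesc.toAug SimplexCategory).obj i)).app F⟩

/-- The opens of one level are multi-flat in the total category. -/
theorem isMultiFlat_inP (i : SimplexCategoryᵒᵖ) : MultiFlat.IsMultiFlat (inP Y i) := fun x => by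
  let π : CostructuredArrow (inP Y i).op x ⥤ Discrete (ULift.{u} (x.unop.base ⟶ i)) :=
    { obj := fun g => ⟨⟨g.hom.unop.base⟩⟩
      map := fun {g g'} f => Discrete.eqToHom (congrArg ULift.up (by
        have h : g'.hom.unop.base ≫ 𝟙 i = g.hom.unop.base :=
          congrArg (fun z : (inP Y i).op.obj g.left ⟶ x => z.unop.base) (CostructuredArrow.w f)
        exact (Category.comp_id _).symm.trans h |>.symm)) }
  refine ⟨_, π, fun d => ?_⟩
  obtain ⟨⟨b⟩⟩ := d
  let V0 (g : CostructuredArrow π ⟨⟨b⟩⟩) : Opens (Y.obj ((FibDesc.toAug SimplexCategory).obj i)) := g.left.left.unop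
  have hV : ∀ g : CostructuredArrow π ⟨⟨b⟩⟩,
      obP x.unop ≤ (Opens.map (Y.map ((FibDesc.toAug SimplexCategory).map b))).obj (V0 g) := fun g => by
    have hb : g.left.hom.unop.base = b := congrArg ULift.down (Discrete.eq_of_hom g.hom)
    have h := homP_le g.left.hom.unop
    rw [hb] at h
    exact h
  let mk' : ∀ V : Opens (Y.obj ((FibDesc.toAug SimplexCategory).obj i)),
      obP x.unop ≤ (Opens.map (Y.map ((FibDesc.toAug SimplexCategory).map b))).obj V → CostructuredArrow π ⟨⟨b⟩⟩ :=
    fun V h => CostructuredArrow.mk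
      (Y := CostructuredArrow.mk (S := (inP Y i).op) (T := x) (Y := op V)
        (homP (X := x.unop) (Z := (inP Y i).obj V) b h).op) (𝟙 _)
  refine
    { nonempty := ⟨mk' ⊤ fun _ _ => trivial⟩
      cocone_objs := fun g g' => ?_
      cocone_maps := fun g g' f f' => ⟨g', 𝟙 g', congrArg (· ≫ 𝟙 g') (CostructuredArrow.ext _ _
        (CostructuredArrow.ext _ _ (Quiver.Hom.unop_inj (Subsingleton.elim _ _))))⟩ }
  exact ⟨mk' (V0 g ⊓ V0 g') fun z hz => ⟨hV g hz, hV g' hz⟩,
    CostructuredArrow.homMk (CostructuredArrow.homMk (le_hom (inf_le_left : V0 g ⊓ V0 g' ≤ V0 g)).op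
      (Quiver.Hom.unop_inj (homP_ext ((Category.comp_id _).trans (congrArg ULift.down (Discrete.eq_of_hom g.hom)).symm))))
      (Subsingleton.elim _ _),
    CostructuredArrow.homMk (CostructuredArrow.homMk (le_hom (inf_le_right : V0 g ⊓ V0 g' ≤ V0 g')).op
      (Quiver.Hom.unop_inj (homP_ext ((Category.comp_id _).trans (congrArg ULift.down (Discrete.eq_of_hom g'.hom)).symm))))
      (Subsingleton.elim _ _), trivial⟩

/-- The base point, as an object of the total category. -/
noncomputable abbrev botObj : ∫ᶜ (FibDesc.topAug Y) := (inA Y (FibDesc.bot SimplexCategory)).obj ⊤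

/-- The inverse image of `ℤ` is `ℤ`. -/
theorem nonempty_pull_const_iso :
    Nonempty ((SpaceCrit.pull Y).obj
        ((constantSheaf (Opens.grothendieckTopology (Y.obj (FibDesc.bot SimplexCategory))) AddCommGrpCat.{u}).obj
          (AddCommGrpCat.of (ULift.{u} ℤ))) ≅ ZP Y) := by
  let hT : IsTerminal (⊤ : Opens (Y.obj (FibDesc.bot SimplexCategory))) := Preorder.isTerminalTop _
  let e1 := (SpaceCrit.pull Y).mapIso
    (SiteCoh.constIso (J := Opens.grothendieckTopology (Y.obj (FibDesc.bot SimplexCategory))) hT)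
  let e2 := (SpaceCrit.I Y).mapIso
    (lftFreeIso (inA Y (FibDesc.bot SimplexCategory)) (Opens.grothendieckTopology (Y.obj (FibDesc.bot SimplexCategory))) (JA Y) ⊤)
  let e3 := (((FibDesc.incl (FibDesc.topAug Y)).pushforwardContinuousSheafificationCompatibility
      AddCommGrpCat.{u} (JP Y) (JA Y)).app (SiteCoh.fp (botObj Y))).symm
  let e4 : (FibDesc.incl (FibDesc.topAug Y)).op ⋙ SiteCoh.fp (botObj Y) ≅
      (Functor.const _).obj (AddCommGrpCat.free.obj PUnit.{u + 1}) :=
    NatIso.ofComponents (fun X => AddCommGrpCat.free.mapIso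
      (Equiv.toIso
        { toFun := fun _ => PUnit.unit
          invFun := fun _ => hom (toBot _) (fun _ _ => trivial)
          left_inv := fun _ => hom_ext ((subsingleton_toBot _).elim _ _)
          right_inv := fun _ => rfl }))
      (fun {X Z} f => AddCommGrpCat.hom_ext (FreeAbelianGroup.lift_ext _ _ fun _ => rfl))
  exact ⟨e1 ≪≫ e2 ≪≫ e3.symm.symm ≪≫ (presheafToSheaf _ _).mapIso e4⟩

/-- The descent spectral sequence. -/
theorem exists_spectralSequence_descent (h : FibDesc.IsCohDescentTop Y)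
    (F : CohTop.Ab (Y.obj (FibDesc.bot SimplexCategory))) :
    ∃ (E : CohomologicalSpectralSequence AddCommGrpCat.{u} 1)
      (a : SpSeq.Abutment E (fun n : ℤ =>
        if 0 ≤ n then AddCommGrpCat.of (CohTop.H F n.toNat) else AddCommGrpCat.of PUnit.{u + 1})),
      (∀ n, a.IsFinite n) ∧ SpSeq.IsBounded E ∧
      ∀ p q : ℤ, Nonempty ((E.page 1 le_rfl).X (p, q) ≅
        (if 0 ≤ p ∧ 0 ≤ q then
          AddCommGrpCat.of (CohTop.H ((CohTop.pull
            (Y.map (toBot ((FibDesc.toAug SimplexCategory).obj (op ⦋p.toNat⦌))))).obj F) q.toNat)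
         else AddCommGrpCat.of PUnit.{u + 1})) := by
  obtain ⟨π, hπ⟩ := exists_resolution Y
  have : PreservesFiniteColimits (SpaceCrit.pull Y) := FibDesc.preservesFiniteColimits_pull _ _ _
  have hbij : ∀ (G₁ G₂ : CohTop.Ab (Y.obj (FibDesc.bot SimplexCategory))) (n : ℕ),
      Function.Bijective ((SpaceCrit.pull Y).mapExtAddHom G₁ G₂ n) := fun G₁ G₂ n => by
    obtain ⟨_, _, _, _, _, _, h⟩ := h
    exact mapExt_bijective_of_plus (SpaceCrit.pull Y) h G₁ G₂ n
  obtain ⟨eZ⟩ := nonempty_pull_const_iso Y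
  let M := (SpaceCrit.pull Y).obj F
  let H : ℤ → AddCommGrpCat.{u} := fun n =>
    if 0 ≤ n then AddCommGrpCat.of (CohTop.H F n.toNat) else AddCommGrpCat.of PUnit.{u + 1}
  have hH : ∀ n : ℕ, Nonempty (H n ≅ AddCommGrpCat.of (Ext (ZP Y) M n)) := fun n => by
    let ψ : Ext ((SpaceCrit.pull Y).obj _) M n ≃+ Ext (ZP Y) M n :=
      { toFun := fun x => (Ext.mk₀ eZ.inv).comp x (zero_add n)
        invFun := fun x => (Ext.mk₀ eZ.hom).comp x (zero_add n)
        left_inv := fun x => by simp
        right_inv := fun x => by simp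
        map_add' := fun x y => by simp }
    exact ⟨eqToIso (show H n = AddCommGrpCat.of (CohTop.H F n) by simp [H]) ≪≫
      AddEquiv.toAddCommGrpIso ((AddEquiv.ofBijective _ (hbij _ F n)).trans ψ)⟩
  have hH' : ∀ n : ℤ, n < 0 → IsZero (H n) := fun n hn => by
    rw [show H n = AddCommGrpCat.of PUnit.{u + 1} by simp [H, show ¬ 0 ≤ n by omega]]
    exact AddCommGrpCat.isZero_of_subsingleton _
  obtain ⟨E, a, ha, hb, h1, h0⟩ := exists_spectralSequence (resCx Y) (ZP Y) M π H hH hH'
  refine ⟨E, a, ha, hb, fun p q => ?_⟩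
  by_cases hpq : 0 ≤ p ∧ 0 ≤ q
  · obtain ⟨p, rfl⟩ := Int.eq_ofNat_of_zero_le hpq.1
    obtain ⟨q, rfl⟩ := Int.eq_ofNat_of_zero_le hpq.2
    obtain ⟨e⟩ := h1 p q
    rw [if_pos hpq]
    let i : SimplexCategoryᵒᵖ := op ⦋p⦌
    let Xp := Y.obj ((FibDesc.toAug SimplexCategory).obj i)
    obtain ⟨ef⟩ := nonempty_ext_free_iso (inP Y i) (Opens.grothendieckTopology Xp) (JP Y) (isMultiFlat_inP Y i) ⊤ M q
    obtain ⟨er⟩ := nonempty_res_pull_iso Y i F
    let c := resCxIso Y p
    let ψ : Ext ((resCx Y).X (-(p : ℤ))) M q ≃+ Ext (SiteCoh.fs (JP Y) ((inP Y i).obj ⊤)) M q :=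
      { toFun := fun x => (Ext.mk₀ c.inv).comp x (zero_add q)
        invFun := fun x => (Ext.mk₀ c.hom).comp x (zero_add q)
        left_inv := fun x => by simp
        right_inv := fun x => by simp
        map_add' := fun x y => by simp }
    let T : ⊤ = (⊤ : Opens Xp) := rfl
    let χ : Ext (SiteCoh.fs (Opens.grothendieckTopology Xp) ⊤) ((res (inP Y i) (Opens.grothendieckTopology Xp) (JP Y)).obj M) q ≃+
        Ext (SiteCoh.fs (Opens.grothendieckTopology Xp) ⊤)
          ((CohTop.pull (Y.map (toBot ((FibDesc.toAug SimplexCategory).obj i)))).obj F) q :=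
      { toFun := fun x => x.comp (Ext.mk₀ er.hom) (add_zero q)
        invFun := fun x => x.comp (Ext.mk₀ er.inv) (add_zero q)
        left_inv := fun x => by simp
        right_inv := fun x => by simp
        map_add' := fun x y => by simp }
    exact ⟨e ≪≫ AddEquiv.toAddCommGrpIso (ψ.trans (ef.trans (χ.trans
      (SiteCoh.hEquiv (J := Opens.grothendieckTopology Xp) (Preorder.isTerminalTop _) _ q).symm)))⟩
  · rw [if_neg hpq]
    exact ⟨(h0 p q hpq).iso (AddCommGrpCat.isZero_of_subsingleton _)⟩

end Groth.L10.Descent
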