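import Groth.Agent.L10.Hyper.Sheafify
import Groth.Agent.L10.SiteCoh
import Groth.Agent.L09.SpaceCrit
import Groth.Prelude.Def_CohCx
import Mathlib.AlgebraicTopology.ExtraDegeneracy
import Mathlib.Algebra.Homology.Embedding.Extend
import Mathlib.Algebra.Homology.Embedding.ExtendHomology
import Mathlib.Algebra.Homology.HomotopyCategory.SingleFunctors
import Mathlib.Algebra.Homology.Embedding.CochainComplex
import Mathlib.Algebra.Homology.Additive

/-! The canonical resolution of `ℤ` on the total site of a simplicial space. -/

universe u

open CategoryTheory CategoryTheory.Limits Opposite Simplicial AlgebraicTopology TopologicalSpace Pseudofunctor.CoGrothendieck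
open Groth.L09.SpaceSite

set_option backward.defeqAttrib.useBackward true
set_option backward.isDefEq.respectTransparency false
set_option autoImplicit false
namespace Groth.L10.Descent

variable (Y : (WithInitial SimplexCategory)ᵒᵖ ⥤ TopCat.{u})

/-- The total category of the part. -/
noncomputable abbrev Tot : Type u := ∫ᶜ (FibDesc.part (FibDesc.topAug Y))

/-- The whole space of a level, as an object of the total category. -/
noncomputable def topObj : SimplexCategoryᵒᵖ ⥤ Tot Y where
  obj n := mkP n ⊤
  map f := homP f (fun _ _ => trivial)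
  map_id _ := homP_ext rfl
  map_comp _ _ := homP_ext rfl

theorem base_bijective (X : Tot Y) (n : SimplexCategoryᵒᵖ) :
    Function.Bijective (fun f : X ⟶ (topObj Y).obj n => f.base) :=
  ⟨fun _ _ h => homP_ext h, fun f => ⟨homP f (fun _ _ => trivial), rfl⟩⟩

/-- The simplicial presheaf of levels. -/
noncomputable abbrev lev : SimplicialObject ((Tot Y)ᵒᵖ ⥤ Type u) := topObj Y ⋙ yoneda

/-- The augmented free simplicial presheaf. -/
noncomputable def augFree : SimplicialObject.Augmented ((Tot Y)ᵒᵖ ⥤ AddCommGrpCat.{u}) where
  left := Hyper.freeP (lev Y)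
  right := (Functor.const _).obj (AddCommGrpCat.free.obj PUnit.{u + 1})
  hom :=
    { app := fun n =>
        { app := fun X => AddCommGrpCat.free.map (↾fun _ => PUnit.unit)
          naturality := fun X X' f => AddCommGrpCat.hom_ext (FreeAbelianGroup.lift_ext _ _ fun x => rfl) }
      naturality := fun n m f => NatTrans.ext (funext fun X => AddCommGrpCat.hom_ext (FreeAbelianGroup.lift_ext _ _ fun x => rfl)) }

/-- The augmented simplicial set of maps out of an object. -/
noncomputable def augSet (X : (Tot Y)ᵒᵖ) : SimplicialObject.Augmented (Type u) where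
  left := lev Y ⋙ (evaluation _ _).obj X
  right := PUnit.{u + 1}
  hom := { app := fun _ => ↾fun _ => PUnit.unit }

/-- It is a standard simplex. -/
noncomputable def augSetIso (X : (Tot Y)ᵒᵖ) : SSet.Augmented.stdSimplex.obj X.unop.base.unop ≅ augSet Y X :=
  Comma.isoMk
    (NatIso.ofComponents (fun n =>
      (SSet.stdSimplex.objEquiv.trans (((opEquiv X.unop.base n).symm).trans
        (Equiv.ofBijective _ (base_bijective Y X.unop n)).symm)).toIso)
      (fun {n m} f => by
        ext z
        apply (base_bijective Y X.unop m).injective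
        have hb : ∀ k (w : X.unop.base ⟶ k),
            ((Equiv.ofBijective _ (base_bijective Y X.unop k)).symm w).base = w := fun k w =>
          Equiv.ofBijective_apply_symm_apply _ (base_bijective Y X.unop k) w
        simp [lev, topObj, augSet, opEquiv]
        erw [hb, hb]
        rfl))
    (terminalIsTerminal.uniqueUpToIso Types.isTerminalPUnit)
    (by
      refine NatTrans.ext (funext fun n => ?_)
      exact Types.isTerminalPUnit.hom_ext _ _)

/-- The evaluated augmented free object has an extra degeneracy. -/
noncomputable def extraDeg (X : (Tot Y)ᵒᵖ) :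
    SimplicialObject.Augmented.ExtraDegeneracy
      (((SimplicialObject.Augmented.whiskering _ _).obj ((evaluation _ AddCommGrpCat.{u}).obj X)).obj (augFree Y)) :=
  ((SimplicialObject.Augmented.ExtraDegeneracy.ofIso (augSetIso Y X)
    (SSet.Augmented.StandardSimplex.extraDegeneracy X.unop.base.unop)).map AddCommGrpCat.free.{u}).ofIso
    (Comma.isoMk (Iso.refl _) (Iso.refl _) (by
      refine NatTrans.ext (funext fun n => ?_)
      exact AddCommGrpCat.hom_ext (FreeAbelianGroup.lift_ext _ _ fun x => rfl)))

/-- The resolution as a chain complex of presheaves. -/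
theorem quasiIso_aug : QuasiIso (AlternatingFaceMapComplex.ε.app (augFree Y)) := by
  rw [quasiIso_iff]
  intro n
  rw [quasiIsoAt_iff_isIso_homologyMap, NatTrans.isIso_iff_isIso_app]
  intro X
  let ev := (evaluation (Tot Y)ᵒᵖ AddCommGrpCat.{u}).obj X
  let ε := AlternatingFaceMapComplex.ε.app (augFree Y)
  let φ := (ev.mapHomologicalComplex (ComplexShape.down ℕ)).map ε
  suffices IsIso (HomologicalComplex.homologyMap φ n) by
    exact (NatIso.isIso_map_iff (ShortComplex.homologyFunctorIso ev)
      ((HomologicalComplex.shortComplexFunctor _ (ComplexShape.down ℕ) n).map ε)).1 this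
  have : QuasiIso φ := by
    have h : QuasiIso (extraDeg Y X).homotopyEquiv.hom := inferInstance
    let α : (ev.mapHomologicalComplex (ComplexShape.down ℕ)).obj (AlternatingFaceMapComplex.obj (augFree Y).left) ≅
        AlternatingFaceMapComplex.obj ((augFree Y).left ⋙ ev) :=
      eqToIso (Functor.congr_obj (map_alternatingFaceMapComplex ev) (augFree Y).left)
    let β := (HomologicalComplex.singleMapHomologicalComplex ev (ComplexShape.down ℕ) 0).app (augFree Y).right
    have e : φ = α.hom ≫ (extraDeg Y X).homotopyEquiv.hom ≫ β.inv := by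
      refine (cancel_mono β.hom).1 ?_
      simp only [Category.assoc, Iso.inv_hom_id, Category.comp_id]
      apply HomologicalComplex.to_single_hom_ext
      simp [φ, ε, α, β, HomologicalComplex.singleMapHomologicalComplex]
      refine Eq.trans ?_ (AlternatingFaceMapComplex.ε_app_f_zero
        (((SimplicialObject.Augmented.whiskering _ _).obj ev).obj (augFree Y))).symm
      simp [ev]
    rw [e]
    exact inferInstance
  exact (quasiIsoAt_iff_isIso_homologyMap φ n).1 inferInstance

/-- The constant sheaf `ℤ` on the total site. -/
noncomputable abbrev ZP : Sheaf (JP Y) AddCommGrpCat.{u} :=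
  (presheafToSheaf (JP Y) AddCommGrpCat.{u}).obj ((Functor.const _).obj (AddCommGrpCat.free.obj PUnit.{u + 1}))

/-- The resolution as a complex of sheaves. -/
noncomputable def resCx : CochainComplex (Sheaf (JP Y) AddCommGrpCat.{u}) ℤ :=
  (((presheafToSheaf (JP Y) AddCommGrpCat.{u}).mapHomologicalComplex (ComplexShape.down ℕ)).obj
    (AlternatingFaceMapComplex.obj (augFree Y).left)).extend ComplexShape.embeddingDownNat

instance isStrictlyLE_resCx : (resCx Y).IsStrictlyLE 0 := by
  dsimp [resCx]
  infer_instance

theorem exists_resolution :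
    ∃ π : resCx Y ⟶ (CochainComplex.singleFunctor (Sheaf (JP Y) AddCommGrpCat.{u}) 0).obj (ZP Y), QuasiIso π := by
  have := quasiIso_aug Y
  let a := (presheafToSheaf (JP Y) AddCommGrpCat.{u})
  let b := (HomologicalComplex.singleMapHomologicalComplex a (ComplexShape.down ℕ) 0).app (augFree Y).right
  let f := (a.mapHomologicalComplex (ComplexShape.down ℕ)).map (AlternatingFaceMapComplex.ε.app (augFree Y)) ≫ b.hom
  have : QuasiIso f := inferInstanceAs (QuasiIso (_ ≫ _))
  have : QuasiIso (HomologicalComplex.extendMap f ComplexShape.embeddingDownNat) :=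
    (HomologicalComplex.quasiIso_extendMap_iff _ _).2 this
  let g := HomologicalComplex.extendSingleIso ComplexShape.embeddingDownNat (ZP Y) 0 (0 : ℤ) (by simp)
  refine ⟨HomologicalComplex.extendMap f ComplexShape.embeddingDownNat ≫ g.hom, ?_⟩
  infer_instance

/-- The terms of the resolution are free sheaves on whole levels. -/
noncomputable def resCxIso (p : ℕ) :
    (resCx Y).X (-(p : ℤ)) ≅ CohCx.freeSheaf (JP Y) ((topObj Y).obj (op ⦋p⦌)) :=
  HomologicalComplex.extendXIso _ ComplexShape.embeddingDownNat (by simp)

end Groth.L10.Descent
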